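import Cfsg.Agent.H40.PSpLocal.Sym2

/-!
A group of additive maps of `F³` in which the unipotent group `U` is a Sylow `p`-subgroup with the
tori as in the symmetric square of `GL(2, F)`: the centraliser of the involution has just two
conjugates of the fixed line of `U` inside its fixed space.
-/

set_option autoImplicit false
set_option linter.style.haveILetI false

open Matrix

namespace H40.PSpLocal

variable {F : Type*} [Field F] [Fintype F]

/-- the fixed line of `U` -/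
def Zs : Set (V F) := {v | v.2.1 = 0 ∧ v.2.2 = 0}
/-- the fixed plane of the involution -/
def V0 : Set (V F) := {v | v.2.1 = 0}
/-- the last coordinate line -/
def Ws : Set (V F) := {v | v.1 = 0 ∧ v.2.1 = 0}

omit [Fintype F] in
theorem mem_Zs {v : V F} : v ∈ (Zs : Set (V F)) ↔ ∃ a, v = (a, 0, 0) := by
  obtain ⟨a, b, c⟩ := v
  constructor
  · rintro ⟨h1, h2⟩; exact ⟨a, by simp_all⟩
  · rintro ⟨a', h⟩; simp_all [Zs]

/-- the hypotheses on the group -/
structure Ctx (p : ℕ) (A : Subgroup (Equiv.Perm (V F))) : Prop where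
  prime : p.Prime
  char : CharP F p
  four : Fintype.card F % 4 = 3
  add : ∀ f ∈ A, ∀ v w, f (v + w) = f v + f w
  stab : ∀ f ∈ A, ∀ a : F, a ≠ 0 → f (a, 0, 0) = (a, 0, 0) → ∃ s d, f = U s * T d
  mem_U : ∀ s, U s ∈ A
  mem_T : ∀ d, T d ∈ A
  moved : ∃ f ∈ A, ∃ a, f (a, 0, 0) ∉ (Zs : Set (V F))
  notFused : ∃ a b : F, a ≠ 0 ∧ b ≠ 0 ∧ ∀ f ∈ A, f (a, 0, 0) ≠ (b, 0, 0)
  sylow : ∀ Q : Subgroup (Equiv.Perm (V F)), Q ≤ A → IsPGroup p Q → Nat.card Q ≤ Fintype.card F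

variable {p : ℕ} {A : Subgroup (Equiv.Perm (V F))}

theorem Ctx.map_zero (K : Ctx p A) {f : Equiv.Perm (V F)} (hf : f ∈ A) : f 0 = 0 := by
  have := K.add f hf 0 0
  rw [add_zero] at this
  exact left_eq_add.1 this

theorem Ctx.map_sub (K : Ctx p A) {f : Equiv.Perm (V F)} (hf : f ∈ A) (v w : V F) :
    f (v - w) = f v - f w := by
  rw [eq_sub_iff_add_eq, ← K.add f hf, sub_add_cancel]

/-- the normaliser of the line -/
def N (A : Subgroup (Equiv.Perm (V F))) : Set (Equiv.Perm (V F)) := {f | f ∈ A ∧ f '' Zs = Zs}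
/-- the conjugates of the line -/
def Om (A : Subgroup (Equiv.Perm (V F))) : Set (Set (V F)) := {X | ∃ f ∈ A, X = f '' Zs}
/-- the conjugates of the line in the fixed plane of the involution -/
def Om0 (A : Subgroup (Equiv.Perm (V F))) : Set (Set (V F)) := {X | X ∈ Om A ∧ X ⊆ V0}

theorem Ctx.U_fix (_K : Ctx p A) (s : F) {v : V F} (hv : v ∈ (Zs : Set (V F))) : U s v = v := by
  obtain ⟨a, rfl⟩ := mem_Zs.1 hv; simp

theorem Ctx.UT_fix (_K : Ctx p A) (s : F) (d : Fˣ) {v : V F} (hv : v ∈ (Zs : Set (V F))) :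
    (U s * T d) v = v := by
  obtain ⟨a, rfl⟩ := mem_Zs.1 hv; simp

omit [Fintype F] in
theorem fix_U_iff (h2 : (2 : F) ≠ 0) {v : V F} (h : U 1 v = v) : v ∈ (Zs : Set (V F)) := by
  obtain ⟨a, b, c⟩ := v
  simp only [U_apply, Prod.mk.injEq] at h
  obtain ⟨h1, h3, -⟩ := h
  have hc : c = 0 := by linear_combination h3
  subst hc
  exact ⟨(mul_eq_zero.1 (show (2 : F) * b = 0 by linear_combination h1)).resolve_left h2, rfl⟩

omit [Fintype F] in
theorem zero_mem_Zs : (0 : V F) ∈ (Zs : Set (V F)) := ⟨rfl, rfl⟩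

/-- an element mapping a nonzero vector of the line into the line preserves the line -/
theorem Ctx.preserves (K : Ctx p A) {f : Equiv.Perm (V F)} (hf : f ∈ A) {v : V F}
    (hv : v ∈ (Zs : Set (V F))) (hv0 : v ≠ 0) (hfv : f v ∈ (Zs : Set (V F))) :
    ∀ z, f z ∈ (Zs : Set (V F)) ↔ z ∈ (Zs : Set (V F)) := by
  obtain ⟨a, rfl⟩ := mem_Zs.1 hv
  have ha : a ≠ 0 := fun h => hv0 (by simp [h])
  have hU : ∀ z ∈ (Zs : Set (V F)), U 1 (f z) = f z := by
    intro z hz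
    obtain ⟨s, d, hsd⟩ := K.stab (f⁻¹ * U 1 * f) (mul_mem (mul_mem (inv_mem hf) (K.mem_U 1)) hf) a ha (by
      rw [Equiv.Perm.mul_apply, Equiv.Perm.mul_apply, K.U_fix 1 hfv, Equiv.Perm.inv_eq_iff_eq])
    have h := K.UT_fix s d hz
    rw [← hsd, Equiv.Perm.mul_apply, Equiv.Perm.mul_apply, Equiv.Perm.inv_eq_iff_eq] at h
    exact h
  intro z
  have hmap : ∀ z ∈ (Zs : Set (V F)), f z ∈ (Zs : Set (V F)) := fun z hz =>
    fix_U_iff (two_ne K.four) (hU z hz)
  refine ⟨fun hz => ?_, hmap z⟩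
  have hfin : (f '' (Zs : Set (V F))) = Zs :=
    Set.eq_of_subset_of_ncard_le (Set.image_subset_iff.2 hmap)
      (Set.ncard_image_of_injective _ f.injective).ge (Set.toFinite _)
  rw [← hfin] at hz
  obtain ⟨z', hz', e⟩ := hz
  rwa [← f.injective e]

theorem Ctx.image_eq (K : Ctx p A) {f : Equiv.Perm (V F)} (hf : f ∈ A) {v : V F}
    (hv : v ∈ (Zs : Set (V F))) (hv0 : v ≠ 0) (hfv : f v ∈ (Zs : Set (V F))) : f '' Zs = Zs := by
  ext z
  constructor
  · rintro ⟨z', hz', rfl⟩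
    exact (K.preserves hf hv hv0 hfv z').2 hz'
  · intro hz
    exact ⟨f⁻¹ z, (K.preserves hf hv hv0 hfv _).1 (by simpa using hz), by simp⟩

/-- two conjugates with a common nonzero vector are equal -/
theorem Ctx.om_eq (K : Ctx p A) {X Y : Set (V F)} (hX : X ∈ Om A) (hY : Y ∈ Om A) {v : V F}
    (hvX : v ∈ X) (hvY : v ∈ Y) (hv : v ≠ 0) : X = Y := by
  obtain ⟨f, hf, rfl⟩ := hX
  obtain ⟨g, hg, rfl⟩ := hY
  obtain ⟨x, hx, rfl⟩ := hvX
  obtain ⟨y, hy, e⟩ := hvY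
  have hx0 : x ≠ 0 := fun h => hv (by rw [h, K.map_zero hf])
  have := K.image_eq (mul_mem (inv_mem hg) hf) hx hx0 (by
    rw [Equiv.Perm.mul_apply, ← e]; simpa using hy)
  conv_rhs => rw [← this, Equiv.Perm.coe_mul, Set.image_comp, ← Set.image_comp, ← Equiv.Perm.coe_mul,
    mul_inv_cancel, Equiv.Perm.coe_one, Set.image_id]

theorem Ctx.zs_mem_om (_K : Ctx p A) : (Zs : Set (V F)) ∈ Om A :=
  ⟨1, one_mem A, by simp⟩

theorem Ctx.smul_om (_K : Ctx p A) {f : Equiv.Perm (V F)} (hf : f ∈ A) {X : Set (V F)} (hX : X ∈ Om A) :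
    f '' X ∈ Om A := by
  obtain ⟨g, hg, rfl⟩ := hX
  exact ⟨f * g, mul_mem hf hg, by rw [Equiv.Perm.coe_mul, Set.image_comp]⟩

/-- the involutions fixing the line pointwise -/
theorem Ctx.invol (K : Ctx p A) {g : Equiv.Perm (V F)} {s : F} {d : Fˣ} (hg : g = U s * T d)
    (h2 : g * g = 1) : g = 1 ∨ g = U (s / 2) * tau * (U (s / 2))⁻¹ := by
  have h2' := two_ne K.four
  have hval := fun v => DFunLike.congr_fun h2 v
  subst hg
  have hc := congrArg (fun v : V F => v.2.2) (hval (0, 0, 1))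
  have hb := congrArg (fun v : V F => v.2.1) (hval (0, 1, 0))
  simp only [Equiv.Perm.mul_apply, T_apply, U_apply, Equiv.Perm.one_apply] at hc hb
  have hd : (d : F) * d = 1 := by linear_combination hb
  rcases eq_of_sq_eq K.four (show (d : F) * d = 1 * 1 by rw [hd, one_mul]) with h | h
  · left
    have hd1 : d = 1 := Units.ext h
    subst hd1
    rw [T_one, mul_one, U_mul] at h2
    have hs := congrArg (fun f : Equiv.Perm (V F) => (f (0, 0, 1)).2.1) h2
    simp only [U_apply, Equiv.Perm.one_apply] at hs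
    have : s = 0 := (mul_eq_zero.1 (show (2 : F) * s = 0 by linear_combination hs)).resolve_left h2'
    rw [this, U_zero, T_one, one_mul]
  · right
    have hd1 : d = -1 := Units.ext (by rw [h, Units.val_neg, Units.val_one])
    subst hd1
    rw [U_inv, mul_assoc, tau, T_U, ← mul_assoc, U_mul]
    congr 2
    rw [Units.val_neg, Units.val_one]
    field_simp
    ring

omit [Fintype F] in
theorem tau_fix_iff (h2 : (2 : F) ≠ 0) {v : V F} : tau v = v ↔ v ∈ (V0 : Set (V F)) := by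
  obtain ⟨a, b, c⟩ := v
  simp only [tau_apply, Prod.mk.injEq, true_and, and_true, V0, Set.mem_ofPred_eq]
  exact ⟨fun h => (mul_eq_zero.1 (show (2 : F) * b = 0 by linear_combination -h)).resolve_left h2,
    fun h => by rw [h, neg_zero]⟩

theorem Ctx.tau_mem (K : Ctx p A) : (tau : Equiv.Perm (V F)) ∈ A := K.mem_T _

theorem Ctx.tau_ne (K : Ctx p A) : (tau : Equiv.Perm (V F)) ≠ 1 := fun h => by
  have := congrArg (fun f : Equiv.Perm (V F) => (f (0, 1, 0)).2.1) h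
  simp only [tau_apply, Equiv.Perm.one_apply] at this
  exact two_ne K.four (by linear_combination -this)

/-- a conjugator commuting with the involution -/
theorem Ctx.exists_comm (K : Ctx p A) {g : Equiv.Perm (V F)} (hg : g ∈ A) (h : g '' Zs ⊆ V0) :
    ∃ c : Equiv.Perm (V F), ∃ s : F, c = g * U s ∧ Commute c tau := by
  have h2 := two_ne K.four
  obtain ⟨s, d, hsd⟩ := K.stab (g⁻¹ * tau * g) (mul_mem (mul_mem (inv_mem hg) K.tau_mem) hg) 1 one_ne_zero (by
    rw [Equiv.Perm.mul_apply, Equiv.Perm.mul_apply,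
      (tau_fix_iff h2).2 (h ⟨_, ⟨rfl, rfl⟩, rfl⟩), Equiv.Perm.inv_eq_iff_eq])
  rcases K.invol hsd (by
    calc g⁻¹ * tau * g * (g⁻¹ * tau * g) = g⁻¹ * (tau * tau) * g := by group
      _ = 1 := by rw [tau_sq]; group) with h' | h'
  · exfalso; apply K.tau_ne
    calc tau = g * (g⁻¹ * tau * g) * g⁻¹ := by group
      _ = 1 := by rw [h']; group
  · refine ⟨_, s / 2, rfl, ?_⟩
    calc g * U (s / 2) * tau = g * (U (s / 2) * tau * (U (s / 2))⁻¹) * U (s / 2) := by group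
      _ = g * (g⁻¹ * tau * g) * U (s / 2) := by rw [h']
      _ = tau * (g * U (s / 2)) := by group

theorem Ctx.comm_unique (K : Ctx p A) {g : Equiv.Perm (V F)} {s s' : F} (h : Commute (g * U s) tau)
    (h' : Commute (g * U s') tau) : s = s' := by
  have hc : Commute (U (s' - s)) tau := by
    have := (Commute.inv_left h).mul_left h'
    rwa [show (g * U s)⁻¹ * (g * U s') = U (s' - s) by
      rw [_root_.mul_inv_rev, U_inv, mul_assoc, inv_mul_cancel_left, U_mul]; congr 1; ring] at this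
  have := congrArg (fun f : Equiv.Perm (V F) => (f (0, 0, 1)).2.1) hc.eq
  simp only [Equiv.Perm.mul_apply, U_apply, tau_apply] at this
  exact (sub_eq_zero.1 ((mul_eq_zero.1 (show (2 : F) * (s' - s) = 0 by linear_combination this)).resolve_left
    (two_ne K.four))).symm

/-- every other conjugate has a unique translate in the fixed plane -/
theorem Ctx.classify (K : Ctx p A) {X : Set (V F)} (hX : X ∈ Om A) (hne : X ≠ Zs) :
    ∃ s, U s '' X ⊆ V0 := by
  obtain ⟨g, hg, rfl⟩ := hX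
  have h2 := two_ne K.four
  by_cases hc : ∃ z ∈ (Zs : Set (V F)), (g z).2.2 ≠ 0
  · obtain ⟨z, hz, hzc⟩ := hc
    refine ⟨-(g z).2.1 / (g z).2.2, ?_⟩
    set t := -(g z).2.1 / (g z).2.2 with ht
    have hmem : U t (g z) ∈ (V0 : Set (V F)) := by
      generalize hv : g z = v at hzc ht ⊢
      obtain ⟨a, b, c⟩ := v
      simp only [U_apply, V0, Set.mem_ofPred_eq]
      simp only at ht hzc
      rw [ht]; field_simp; ring
    have hz0 : z ≠ 0 := fun h => hzc (by rw [h, K.map_zero hg]; rfl)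
    obtain ⟨a, rfl⟩ := mem_Zs.1 hz
    have ha : a ≠ 0 := fun h => hz0 (by simp [h])
    obtain ⟨s, d, hsd⟩ := K.stab ((U t * g)⁻¹ * tau * (U t * g))
      (mul_mem (mul_mem (inv_mem (mul_mem (K.mem_U t) hg)) K.tau_mem) (mul_mem (K.mem_U t) hg)) a ha (by
      rw [Equiv.Perm.mul_apply, Equiv.Perm.mul_apply, Equiv.Perm.inv_eq_iff_eq, Equiv.Perm.mul_apply,
        (tau_fix_iff h2).2 hmem])
    rintro _ ⟨_, ⟨z', hz', rfl⟩, rfl⟩
    refine (tau_fix_iff h2).1 ?_
    have h := K.UT_fix s d hz'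
    rw [← hsd, Equiv.Perm.mul_apply, Equiv.Perm.mul_apply, Equiv.Perm.inv_eq_iff_eq] at h
    exact h
  · exfalso
    push Not at hc
    obtain ⟨a₀, b₀, ha₀, hb₀, hfus⟩ := K.notFused
    have hbne : ∀ x : F, x ≠ 0 → (g (x, 0, 0)).2.1 ≠ 0 := by
      intro x hx hb
      refine hne (K.image_eq hg ⟨rfl, rfl⟩ (fun h => hx (by simpa using congrArg Prod.fst h))
        ⟨hb, hc _ ⟨rfl, rfl⟩⟩)
    have h1 := hbne a₀ ha₀
    have h3 := hbne b₀ hb₀
    have c1 := hc (a₀, 0, 0) ⟨rfl, rfl⟩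
    have c3 := hc (b₀, 0, 0) ⟨rfl, rfl⟩
    generalize e1 : g (a₀, 0, 0) = v at h1 c1
    generalize e3 : g (b₀, 0, 0) = v' at h3 c3
    obtain ⟨a, b, c⟩ := v
    obtain ⟨a', b', c'⟩ := v'
    simp only at h1 h3 c1 c3
    subst c1 c3
    let d : Fˣ := Units.mk0 (b' / b) (div_ne_zero h3 h1)
    have hmap : (U ((a' - a) / (2 * b')) * T d) (a, b, 0) = (a', b', 0) := by
      simp only [Equiv.Perm.mul_apply, T_apply, U_apply, d, Units.val_mk0, Prod.mk.injEq, mul_zero,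
        add_zero, and_true]
      constructor <;> field_simp
      ring
    refine hfus (g⁻¹ * (U ((a' - a) / (2 * b')) * T d) * g)
      (mul_mem (mul_mem (inv_mem hg) (mul_mem (K.mem_U _) (K.mem_T _))) hg) ?_
    rw [Equiv.Perm.mul_apply, Equiv.Perm.mul_apply, Equiv.Perm.inv_eq_iff_eq, e1, hmap, e3]

theorem Ctx.shift_unique (K : Ctx p A) {X : Set (V F)} (hX : X ∈ Om A) (hne : X ≠ Zs) {s t : F}
    (hs : U s '' X ⊆ V0) (ht : U t '' X ⊆ V0) : s = t := by
  obtain ⟨g, hg, rfl⟩ := hX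
  have e1 := hs ⟨_, ⟨(1, 0, 0), ⟨rfl, rfl⟩, rfl⟩, rfl⟩
  have e2 := ht ⟨_, ⟨(1, 0, 0), ⟨rfl, rfl⟩, rfl⟩, rfl⟩
  by_contra hst
  apply hne
  generalize hv : g (1, 0, 0) = v at e1 e2
  obtain ⟨a, b, c⟩ := v
  simp only [U_apply, V0, Set.mem_ofPred_eq] at e1 e2
  have hc : c = 0 :=
    (mul_eq_zero.1 (show (s - t) * c = 0 by linear_combination e1 - e2)).resolve_left (sub_ne_zero.2 hst)
  subst hc
  exact K.image_eq hg (v := ((1 : F), 0, 0)) ⟨rfl, rfl⟩ (by simp) (by rw [hv]; exact ⟨by simpa using e1, rfl⟩)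

omit [Fintype F] in
theorem U_image_Zs (s : F) : U s '' (Zs : Set (V F)) = Zs := by
  refine Set.ext fun z => ⟨?_, fun hz => ⟨z, hz, ?_⟩⟩
  · rintro ⟨z, hz, rfl⟩
    obtain ⟨a, rfl⟩ := mem_Zs.1 hz
    simp [Zs]
  · obtain ⟨a, rfl⟩ := mem_Zs.1 hz
    simp

omit [Fintype F] in
theorem T_image_Zs (d : Fˣ) : T d '' (Zs : Set (V F)) = Zs := by
  refine Set.ext fun z => ⟨?_, fun hz => ⟨z, hz, ?_⟩⟩
  · rintro ⟨z, hz, rfl⟩
    obtain ⟨a, rfl⟩ := mem_Zs.1 hz
    simp [Zs]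
  · obtain ⟨a, rfl⟩ := mem_Zs.1 hz
    simp

end H40.PSpLocal
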