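import Cfsg.Agent.H9.ShapeSp

/-!
The centraliser of a long root element in `PSp(4, F)` in coordinates: a Heisenberg group extended by
`SL(2, F)`, and its maximal unipotent subgroup.
-/

set_option autoImplicit false
set_option linter.style.haveILetI false
set_option linter.unusedSectionVars false

open Matrix

namespace H40.PSpLocal

open Cfsg.Agent.H9.Shape (spMat spMat_mem spMat_mul spMat_one Ix)

variable {F : Type*} [Field F]

/-- `SL(2, F)` -/
abbrev SL2 (F : Type*) [Field F] := Matrix.SpecialLinearGroup (Fin 2) F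

/-- natural action -/
def sa (g : SL2 F) (v : F × F) : F × F :=
  (g.1 0 0 * v.1 + g.1 0 1 * v.2, g.1 1 0 * v.1 + g.1 1 1 * v.2)

/-- upper unitriangular matrices -/
def uni (s : F) : SL2 F := ⟨!![1, s; 0, 1], by simp [Matrix.det_fin_two_of]⟩

/-- diagonal matrices -/
def dia (d : Fˣ) : SL2 F := ⟨!![(d : F), 0; 0, ((d⁻¹ : Fˣ) : F)], by simp [Matrix.det_fin_two_of]⟩

theorem sl2_det (g : SL2 F) : g.1 0 0 * g.1 1 1 - g.1 0 1 * g.1 1 0 = 1 := by
  rw [← Matrix.det_fin_two]; exact g.2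

theorem uni_zero : uni (0 : F) = 1 := Subtype.ext (by
  ext i j; fin_cases i <;> fin_cases j <;> simp [uni])

theorem uni_mul (s t : F) : uni s * uni t = uni (s + t) := Subtype.ext (by
  rw [Matrix.SpecialLinearGroup.coe_mul]
  ext i j; fin_cases i <;> fin_cases j <;> simp [uni, add_comm])

theorem uni_injective : Function.Injective (uni : F → SL2 F) := fun s t h => by
  simpa [uni] using congrArg (fun g : SL2 F => g.1 0 1) h

theorem dia_mul (d e : Fˣ) : dia d * dia e = dia (d * e) := Subtype.ext (by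
  rw [Matrix.SpecialLinearGroup.coe_mul]
  ext i j; fin_cases i <;> fin_cases j <;> simp [dia, mul_comm])

theorem dia_one : dia (1 : Fˣ) = 1 := Subtype.ext (by
  ext i j; fin_cases i <;> fin_cases j <;> simp [dia])

theorem dia_uni (d : Fˣ) (s : F) : dia d * uni s = uni ((d : F) * d * s) * dia d := Subtype.ext (by
  rw [Matrix.SpecialLinearGroup.coe_mul, Matrix.SpecialLinearGroup.coe_mul]
  ext i j; fin_cases i <;> fin_cases j <;> simp [dia, uni] <;> field_simp)

theorem sa_one (v : F × F) : sa 1 v = v := by simp [sa]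
theorem sa_uni (s : F) (v : F × F) : sa (uni s) v = (v.1 + s * v.2, v.2) := by simp [sa, uni]
theorem sa_dia (d : Fˣ) (v : F × F) :
    sa (dia d) v = ((d : F) * v.1, ((d⁻¹ : Fˣ) : F) * v.2) := by simp [sa, dia]

/-- coordinates for a subgroup shaped like the centraliser of a long root element -/
structure Emb (G : Type*) [Group G] (F : Type*) [Field F] where
  j : F × F → F → SL2 F → G
  mul' : ∀ v c g w d h, j v c g * j w d h =
    j (v + sa g w) (c + d + (v.1 * (sa g w).2 - v.2 * (sa g w).1)) (g * h)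
  inj : ∀ {v c g w d h}, j v c g = j w d h → v = w ∧ c = d ∧ g = h

variable {G : Type*} [Group G] (E : Emb G F)

theorem Emb.one : E.j 0 0 1 = 1 := by
  have h := E.mul' 0 0 1 0 0 1
  rw [sa_one, mul_one] at h
  simpa using h

theorem Emb.central (a : F) (v : F × F) (c : F) (g : SL2 F) :
    E.j v c g * E.j 0 a 1 = E.j 0 a 1 * E.j v c g := by
  rw [E.mul', E.mul', sa_one, mul_one, one_mul]
  congr 1 <;> simp [sa, add_comm]

/-- conjugate coordinates -/
def Emb.conj (k : G) : Emb G F where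
  j v c g := k * E.j v c g * k⁻¹
  mul' v c g w d h := by
    rw [show k * E.j v c g * k⁻¹ * (k * E.j w d h * k⁻¹) = k * (E.j v c g * E.j w d h) * k⁻¹ by group,
      E.mul']
  inj h := E.inj (by simpa using h)

/-- image coordinates -/
def Emb.map {H : Type*} [Group H] (f : G →* H) (hf : Function.Injective f) : Emb H F where
  j v c g := f (E.j v c g)
  mul' v c g w d h := by rw [← map_mul, E.mul']
  inj h := E.inj (hf h)

/-- coordinates inside a subgroup -/
def Emb.restrict (H : Subgroup G) (hH : ∀ v c g, E.j v c g ∈ H) : Emb H F where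
  j v c g := ⟨E.j v c g, hH v c g⟩
  mul' v c g w d h := Subtype.ext (E.mul' v c g w d h)
  inj h := E.inj (congrArg Subtype.val h)

theorem Emb.uni_mul_uni (v w : F × F) (c d s t : F) :
    E.j v c (uni s) * E.j w d (uni t) = E.j (v.1 + w.1 + s * w.2, v.2 + w.2)
      (c + d + (v.1 * w.2 - v.2 * (w.1 + s * w.2))) (uni (s + t)) := by
  rw [E.mul', sa_uni, uni_mul]
  congr 1
  ext <;> simp [add_assoc]

/-- the maximal unipotent subgroup -/
def Emb.U0 : Subgroup G where
  carrier := Set.range fun q : (F × F) × F × F => E.j q.1 q.2.1 (uni q.2.2)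
  one_mem' := ⟨((0, 0), 0, 0), by show E.j 0 0 (uni 0) = 1; rw [uni_zero, E.one]⟩
  mul_mem' := by
    rintro _ _ ⟨⟨v, c, s⟩, rfl⟩ ⟨⟨w, d, t⟩, rfl⟩
    exact ⟨(_, _, _), (E.uni_mul_uni v w c d s t).symm⟩
  inv_mem' := by
    rintro _ ⟨⟨v, c, s⟩, rfl⟩
    refine ⟨((-(v.1 - s * v.2), -v.2), -c, -s), (inv_eq_of_mul_eq_one_right ?_).symm⟩
    show E.j v c (uni s) * E.j _ _ (uni (-s)) = 1
    rw [E.uni_mul_uni, ← E.one]
    dsimp only
    rw [add_neg_cancel s, uni_zero]
    congr 1
    · ext <;> simp <;> ring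
    · simp; ring

theorem Emb.mem_U0 {y : G} : y ∈ E.U0 ↔ ∃ v c s, E.j v c (uni s) = y :=
  ⟨fun ⟨⟨v, c, s⟩, h⟩ => ⟨v, c, s, h⟩, fun ⟨v, c, s, h⟩ => ⟨⟨v, c, s⟩, h⟩⟩

theorem Emb.j_mem_U0 (v : F × F) (c s : F) : E.j v c (uni s) ∈ E.U0 := E.mem_U0.2 ⟨v, c, s, rfl⟩

theorem Emb.card_U0 [Fintype F] : Nat.card E.U0 = Fintype.card F ^ 4 := by
  show Nat.card (Set.range fun q : (F × F) × F × F => E.j q.1 q.2.1 (uni q.2.2)) = _
  rw [Nat.card_range_of_injective, Nat.card_eq_fintype_card]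
  · simp only [Fintype.card_prod]; ring
  · rintro ⟨v, c, s⟩ ⟨w, d, t⟩ h
    obtain ⟨h1, h2, h3⟩ := E.inj h
    dsimp only at h1 h2 h3
    rw [h1, h2, uni_injective h3]

/-- the centre of the maximal unipotent subgroup -/
theorem Emb.center_U0 (h2 : (2 : F) ≠ 0) {y : G} (hy : y ∈ E.U0)
    (hc : ∀ u ∈ E.U0, u * y = y * u) : ∃ a, y = E.j 0 a 1 := by
  obtain ⟨⟨v1, v2⟩, c, s, rfl⟩ := E.mem_U0.1 hy
  have h1 := hc _ (E.j_mem_U0 (0, 1) 0 0)
  have h3 := hc _ (E.j_mem_U0 (1, 0) 0 0)
  rw [E.uni_mul_uni, E.uni_mul_uni] at h1 h3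
  obtain ⟨e1, e1', -⟩ := E.inj h1
  obtain ⟨-, e3, -⟩ := E.inj h3
  simp only [Prod.mk.injEq] at e1
  have hs : s = 0 := by
    obtain ⟨e1, -⟩ := e1
    linear_combination -e1
  subst hs
  have hv2 : v2 = 0 := (mul_eq_zero.1 (show (2 : F) * v2 = 0 by linear_combination e3)).resolve_left h2
  have hv1 : v1 = 0 := (mul_eq_zero.1 (show (2 : F) * v1 = 0 by linear_combination -e1')).resolve_left h2
  exact ⟨c, by rw [hv1, hv2, uni_zero]; rfl⟩

/-! ### The model in `PSp(4, F)` -/

section model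

variable [Fintype F]

theorem mk_center_eq (g h : Matrix.symplecticGroup (Fin 2) F)
    (e : (QuotientGroup.mk g : Cfsg.PSp 2 F) = QuotientGroup.mk h) :
    h = g ∨ h = g * H49.spNegOne (Fin 2) F := by
  obtain hc := QuotientGroup.eq.1 e
  rcases H49.eq_one_or_negOne_of_mem_center hc with h' | h'
  · left; rw [inv_mul_eq_one] at h'; exact h'.symm
  · right; rw [← h', mul_inv_cancel_left]

/-- the model -/
def pspEmb (h2 : (2 : F) ≠ 0) : Emb (Cfsg.PSp 2 F) F where
  j v c g := QuotientGroup.mk (⟨spMat v c g.1, spMat_mem v c g.1 g.2⟩ : Matrix.symplecticGroup (Fin 2) F)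
  mul' v c g w d h := by
    rw [← QuotientGroup.mk_mul]
    congr 1
    exact Subtype.ext (spMat_mul v w c d g.1 h.1 g.2)
  inj {v c g w d h} e := by
    rcases mk_center_eq _ _ e with h' | h'
    · have e' : spMat w d h.1 = spMat v c g.1 := congrArg Subtype.val h'
      obtain ⟨hA, hB, hC, hD⟩ := Matrix.fromBlocks_inj.1 e'
      refine ⟨Prod.ext ?_ ?_, ?_, Subtype.ext (Matrix.ext fun i j => ?_)⟩
      · exact (congrFun (congrFun hB 1) 0).symm
      · exact (congrFun (congrFun hD 1) 0).symm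
      · exact (congrFun (congrFun hB 0) 0).symm
      · fin_cases i <;> fin_cases j
        · exact (congrFun (congrFun hA 1) 1).symm
        · exact (congrFun (congrFun hB 1) 1).symm
        · exact (congrFun (congrFun hC 1) 1).symm
        · exact (congrFun (congrFun hD 1) 1).symm
    · exfalso
      have h1 := congrFun (congrFun (congrArg
        (fun x : Matrix.symplecticGroup (Fin 2) F => (x : Matrix Ix Ix F)) h') (Sum.inl 0)) (Sum.inl 0)
      simp [spMat, H49.spNegOne] at h1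
      apply h2
      linear_combination h1

theorem card_psp_dvd : Nat.card (Cfsg.PSp 2 F) ∣
    Fintype.card F ^ 4 * ((Fintype.card F ^ 2 - 1) * (Fintype.card F ^ 4 - 1)) := by
  refine (Subgroup.card_quotient_dvd_card _).trans ?_
  rw [H48.card_sp]
  simp [Finset.prod_range_succ]

/-- a `p`-subgroup has order at most `q ^ 4` -/
theorem card_pGroup_le (p n : ℕ) [Fact p.Prime] (hn : 1 ≤ n) (hF : Fintype.card F = p ^ n)
    {Q : Subgroup (Cfsg.PSp 2 F)} (hQ : IsPGroup p Q) : Nat.card Q ≤ Fintype.card F ^ 4 := by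
  obtain ⟨k, hk⟩ := IsPGroup.iff_card.1 hQ
  have h1 := (Subgroup.card_subgroup_dvd_card Q).trans card_psp_dvd
  rw [hk] at h1 ⊢
  have hp : p.Prime := Fact.out
  have hq : 1 < Fintype.card F := Fintype.one_lt_card
  have hnd : ∀ m, 1 ≤ m → ¬ p ∣ Fintype.card F ^ m - 1 := by
    intro m hm hd
    have h2 : p ∣ Fintype.card F ^ m := by
      rw [hF, ← pow_mul]; exact dvd_pow_self p (by positivity)
    have h3 : 1 ≤ Fintype.card F ^ m := Nat.one_le_pow _ _ (by omega)
    have := Nat.dvd_sub h2 hd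
    rw [show Fintype.card F ^ m - (Fintype.card F ^ m - 1) = 1 by omega] at this
    exact hp.one_lt.ne' (Nat.dvd_one.1 this)
  refine Nat.le_of_dvd (by positivity) (Nat.Coprime.dvd_of_dvd_mul_right ?_ h1)
  exact Nat.Coprime.pow_left _ ((hp.coprime_iff_not_dvd).2 fun hd =>
    (hp.dvd_mul.1 hd).elim (hnd 2 (by norm_num)) (hnd 4 (by norm_num)))

/-- matrices commuting with a transvection, normalised -/
theorem mem_range_of_comm (g : Matrix.symplecticGroup (Fin 2) F) {a : F} (ha : a ≠ 0)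
    (hcomm : (g : Matrix Ix Ix F) * spMat (0, 0) a 1 = spMat (0, 0) a 1 * (g : Matrix Ix Ix F))
    (h00 : (g : Matrix Ix Ix F) (Sum.inl 0) (Sum.inl 0) = 1) :
    ∃ v c, ∃ l : SL2 F, (g : Matrix Ix Ix F) = spMat v c l.1 := by
  set A : Matrix Ix Ix F := (g : Matrix Ix Ix F) with hA
  have hJ : Aᵀ * Matrix.J (Fin 2) F * A = Matrix.J (Fin 2) F :=
    SymplecticGroup.mem_iff'.1 g.2
  have ent := fun i j => congrFun (congrFun hcomm i) j
  have form := fun i j => congrFun (congrFun hJ i) j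
  have e10 := ent (Sum.inl 1) (Sum.inr 0)
  have e30 := ent (Sum.inr 1) (Sum.inr 0)
  have e20 := ent (Sum.inr 0) (Sum.inr 0)
  have e22 := ent (Sum.inl 0) (Sum.inr 0)
  have e21 := ent (Sum.inl 0) (Sum.inl 1)
  have e23 := ent (Sum.inl 0) (Sum.inr 1)
  simp [Matrix.mul_apply, Fintype.sum_sum_type, Fin.sum_univ_two, spMat, ha] at e10 e30 e20 e22 e21 e23
  have f12 := form (Sum.inr 0) (Sum.inl 1)
  have f14 := form (Sum.inr 0) (Sum.inr 1)
  have f24 := form (Sum.inl 1) (Sum.inr 1)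
  simp [Matrix.mul_apply, Fintype.sum_sum_type, Fin.sum_univ_two, Matrix.J, Matrix.transpose_apply]
    at f12 f14 f24
  have k22 : A (Sum.inr 0) (Sum.inr 0) = 1 := by
    rw [← h00]; exact mul_left_cancel₀ ha (by linear_combination (norm := ring_nf) -e22)
  have hdet : A (Sum.inl 1) (Sum.inl 1) * A (Sum.inr 1) (Sum.inr 1) -
      A (Sum.inl 1) (Sum.inr 1) * A (Sum.inr 1) (Sum.inl 1) = 1 := by
    simp [e21, e23] at f24
    linear_combination (norm := ring_nf) -f24
  refine ⟨(A (Sum.inl 1) (Sum.inr 0), A (Sum.inr 1) (Sum.inr 0)), A (Sum.inl 0) (Sum.inr 0),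
    ⟨!![A (Sum.inl 1) (Sum.inl 1), A (Sum.inl 1) (Sum.inr 1);
      A (Sum.inr 1) (Sum.inl 1), A (Sum.inr 1) (Sum.inr 1)], by rw [Matrix.det_fin_two_of, hdet]⟩, ?_⟩
  ext i j
  rcases i with i | i <;> rcases j with j | j <;> fin_cases i <;> fin_cases j <;>
    simp [spMat, h00, e10, e30, e20, k22, e21, e23]
  · simp [e21, k22] at f12
    linear_combination (norm := ring_nf) f12
  · simp [e23, k22] at f14
    linear_combination (norm := ring_nf) f14

/-- **The centraliser of a long root element.** -/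
theorem centralizer_root (h2 : (2 : F) ≠ 0) {a : F} (ha : a ≠ 0) (y : Cfsg.PSp 2 F)
    (hy : y * (pspEmb h2).j 0 a 1 = (pspEmb h2).j 0 a 1 * y) :
    ∃ v c g, (pspEmb h2).j v c g = y := by
  obtain ⟨g, rfl⟩ := QuotientGroup.mk_surjective y
  set t : Matrix.symplecticGroup (Fin 2) F :=
    ⟨spMat 0 a (1 : SL2 F).1, spMat_mem 0 a _ (1 : SL2 F).2⟩ with ht
  have htv : (t : Matrix Ix Ix F) = spMat (0, 0) a 1 := rfl
  have hc : g * t = t * g := by
    rcases mk_center_eq _ _ (show ((g * t : Matrix.symplecticGroup (Fin 2) F) : Cfsg.PSp 2 F) = (t * g : Matrix.symplecticGroup (Fin 2) F) from hy) with h | h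
    · exact h.symm
    · exfalso
      have h1 := congrArg (fun y : Matrix.symplecticGroup (Fin 2) F =>
        Matrix.trace ((y : Matrix Ix Ix F) * ((g⁻¹ : Matrix.symplecticGroup (Fin 2) F) : Matrix Ix Ix F)))
        h
      have hg : ((g⁻¹ : Matrix.symplecticGroup (Fin 2) F) : Matrix Ix Ix F) * (g : Matrix Ix Ix F) = 1 :=
        congrArg (fun y : Matrix.symplecticGroup (Fin 2) F => (y : Matrix Ix Ix F)) (inv_mul_cancel g)
      have hg' : (g : Matrix Ix Ix F) * ((g⁻¹ : Matrix.symplecticGroup (Fin 2) F) : Matrix Ix Ix F) = 1 :=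
        congrArg (fun y : Matrix.symplecticGroup (Fin 2) F => (y : Matrix Ix Ix F)) (mul_inv_cancel g)
      simp only [Submonoid.coe_mul, H49.spNegOne, mul_neg, mul_one, neg_mul, Matrix.trace_neg] at h1
      rw [Matrix.mul_assoc (t : Matrix Ix Ix F), hg', mul_one, Matrix.trace_mul_cycle, hg, one_mul, htv] at h1
      simp [spMat, Matrix.trace, Fintype.sum_sum_type, Fin.sum_univ_two] at h1
      have h8 : (2 : F) * (2 * 2) = 0 := by linear_combination (norm := ring_nf) h1
      exact mul_ne_zero h2 (mul_ne_zero h2 h2) h8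
  have hcomm : (g : Matrix Ix Ix F) * spMat (0, 0) a 1 = spMat (0, 0) a 1 * (g : Matrix Ix Ix F) :=
    congrArg (fun y : Matrix.symplecticGroup (Fin 2) F => (y : Matrix Ix Ix F)) hc
  have hsq : (g : Matrix Ix Ix F) (Sum.inl 0) (Sum.inl 0) * (g : Matrix Ix Ix F) (Sum.inl 0) (Sum.inl 0) = 1 := by
    have e10 := congrFun (congrFun hcomm (Sum.inl 1)) (Sum.inr 0)
    have e30 := congrFun (congrFun hcomm (Sum.inr 1)) (Sum.inr 0)
    have e20 := congrFun (congrFun hcomm (Sum.inr 0)) (Sum.inr 0)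
    have e22 := congrFun (congrFun hcomm (Sum.inl 0)) (Sum.inr 0)
    have f := congrFun (congrFun (SymplecticGroup.mem_iff'.1 g.2) (Sum.inr 0)) (Sum.inl 0)
    simp [spMat, Matrix.mul_apply, Fintype.sum_sum_type, Fin.sum_univ_two, ha] at e10 e30 e20 e22
    simp [Matrix.mul_apply, Fintype.sum_sum_type, Fin.sum_univ_two, Matrix.J, Matrix.transpose_apply,
      e10, e30, e20] at f
    have k22 : (g : Matrix Ix Ix F) (Sum.inr 0) (Sum.inr 0) = (g : Matrix Ix Ix F) (Sum.inl 0) (Sum.inl 0) :=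
      mul_left_cancel₀ ha (by linear_combination (norm := ring_nf) -e22)
    rw [k22] at f
    linear_combination (norm := ring_nf) f
  rcases mul_self_eq_one_iff.1 hsq with h | h
  · obtain ⟨v, c, l, hl⟩ := mem_range_of_comm g ha hcomm h
    exact ⟨v, c, l, congrArg QuotientGroup.mk (Subtype.ext hl.symm)⟩
  · have hcent := H49.spNegOne_mem_center (l := Fin 2) (F := F)
    obtain ⟨v, c, l, hl⟩ := mem_range_of_comm (H49.spNegOne (Fin 2) F * g) ha
      (by
        simp only [Submonoid.coe_mul, H49.spNegOne, neg_mul, one_mul, mul_neg, hcomm])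
      (by simp [H49.spNegOne, h])
    refine ⟨v, c, l, ?_⟩
    show QuotientGroup.mk _ = _
    rw [show (⟨spMat v c l.1, spMat_mem v c l.1 l.2⟩ : Matrix.symplecticGroup (Fin 2) F) =
      H49.spNegOne (Fin 2) F * g from Subtype.ext hl.symm, QuotientGroup.mk_mul,
      (QuotientGroup.eq_one_iff _).2 hcent, one_mul]

end model

end H40.PSpLocal
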