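import Cfsg.Agent.H40.PSpLocal.Param

/-!
The action of the normaliser, and the complement.
-/

set_option autoImplicit false
set_option linter.style.haveILetI false
set_option linter.unusedSectionVars false

open Matrix

namespace H40.PSpLocal

variable {F : Type*} [Field F] [Fintype F]

theorem U_pow (s : F) (m : ℕ) : U s ^ m = U ((m : F) * s) := by
  induction m with
  | zero => simp [U_zero]
  | succ m ih => rw [pow_succ, ih, U_mul, Nat.cast_succ, add_mul, one_mul]

theorem coordinates {G : Type*} [Group G] [Finite G] {E : Emb G F} {M : Subgroup G} (hMU : M ≤ E.U0)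
    [IsMulCommutative M] (h2 : (2 : F) ≠ 0) (hcard : Nat.card M = Fintype.card F ^ 3) :
    ∀ y, y ∈ M ↔ ∃ v, E.iota v = y := by
  have hcV : Nat.card (V F) = Fintype.card F ^ 3 := by
    simp only [Nat.card_prod, Nat.card_eq_fintype_card (α := F)]; ring
  intro y
  refine ⟨fun hy => E.abelian_le h2 hMU hcard.ge y hy, ?_⟩
  choose f hf using E.abelian_le h2 hMU hcard.ge
  rintro ⟨v, rfl⟩
  have hb : Function.Bijective (fun z : M => f z z.2) := by
    refine (Nat.bijective_iff_injective_and_card _).2 ⟨fun z z' h => Subtype.ext ?_, by rw [hcard, hcV]⟩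
    rw [← hf z z.2, ← hf z' z'.2]
    exact congrArg E.iota h
  obtain ⟨z, hz⟩ := hb.2 v
  rw [← hz, hf z z.2]
  exact z.2

/-- **Main.** -/
theorem main {G : Type*} [Group G] [Finite G] {p n : ℕ} [Fact p.Prime] (hn : 1 ≤ n)
    (hq4 : p ^ n % 4 = 3) (hF : Fintype.card F = p ^ n) {α : G} (E : Emb G F)
    (hC : ∀ y, y ∈ Subgroup.centralizer ({α} : Set G) ↔ ∃ v c g, E.j v c g = y)
    (hb : ∀ z ∈ Subgroup.centralizer ({α} : Set G), z ≠ 1 →
      (∀ c ∈ Subgroup.centralizer ({α} : Set G), c * z = z * c) →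
      Subgroup.centralizer ({z} : Set G) = Subgroup.centralizer ({α} : Set G))
    (hc : ∃ (u v : G) (Pu Pv : Sylow p G), orderOf u = p ∧ orderOf v = p ∧
      u ∈ (Pu : Subgroup G) ∧ (∀ y ∈ (Pu : Subgroup G), y * u = u * y) ∧
      v ∈ (Pv : Subgroup G) ∧ (∀ y ∈ (Pv : Subgroup G), y * v = v * y) ∧ ∀ g : G, g * u * g⁻¹ ≠ v)
    (P : Sylow p G) (hPU : (P : Subgroup G) = E.U0)
    (M : Subgroup G) (hMP : M ≤ P) (hMc : IsMulCommutative M) (hMcard : Nat.card M = p ^ (3 * n))
    (hnc : ∃ Q R : Sylow p ↥(Subgroup.normalizer (M : Set G)), Q ≠ R) :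
    ∃ J : Subgroup G, J ≤ Subgroup.normalizer (M : Set G) ∧ M ⊔ J = Subgroup.normalizer (M : Set G) ∧
      M ⊓ J = ⊥ ∧
      Nonempty (↥J ≃* (Matrix.ProjGenLinGroup (Fin 2) F × Multiplicative (ZMod ((p ^ n - 1) / 2)))) := by
  classical
  have hp : p.Prime := Fact.out
  have h4 : Fintype.card F % 4 = 3 := hF ▸ hq4
  have h2 : (2 : F) ≠ 0 := two_ne h4
  haveI hchar : CharP F p := charP_of_card_eq_prime_pow (by rw [← hF])
  have hMU : M ≤ E.U0 := hPU ▸ hMP
  have hcard : Nat.card M = Fintype.card F ^ 3 := by rw [hMcard, hF, ← pow_mul, mul_comm]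
  have hM := coordinates hMU h2 hcard
  set N := Subgroup.normalizer (M : Set G) with hN
  have hMN : M ≤ N := Subgroup.le_normalizer
  let eV : V F → M := fun v => ⟨E.iota v, (hM _).2 ⟨v, rfl⟩⟩
  have heV : Function.Bijective eV := ⟨fun v w h => E.iota_injective (congrArg Subtype.val h),
    fun ⟨y, hy⟩ => by obtain ⟨v, hv⟩ := (hM y).1 hy; exact ⟨v, Subtype.ext hv⟩⟩
  let eE : V F ≃ M := Equiv.ofBijective eV heV
  -- the action
  have hact : ∀ (g : N) (v : V F), ∃ w, E.iota w = (g : G) * E.iota v * (g : G)⁻¹ := fun g v =>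
    (hM _).1 ((Subgroup.mem_normalizer_iff.1 g.2 _).1 ((hM _).2 ⟨v, rfl⟩))
  choose act' hact' using hact
  have hmul : ∀ g h v, act' (g * h) v = act' g (act' h v) := fun g h v => E.iota_injective (by
    rw [hact', hact', hact', Subgroup.coe_mul]; group)
  have hone : ∀ v, act' 1 v = v := fun v => E.iota_injective (by rw [hact']; simp)
  let Θ : N →* Equiv.Perm (V F) :=
    { toFun := fun g => ⟨act' g, act' g⁻¹, fun v => by rw [← hmul, inv_mul_cancel, hone],
        fun v => by rw [← hmul, mul_inv_cancel, hone]⟩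
      map_one' := Equiv.ext hone
      map_mul' := fun g h => Equiv.ext (hmul g h) }
  have hΘ : ∀ (g : N) v, E.iota (Θ g v) = (g : G) * E.iota v * (g : G)⁻¹ := fun g v => hact' g v
  have hΘeq : ∀ (g : N) (f : Equiv.Perm (V F)),
      (∀ v, (g : G) * E.iota v = E.iota (f v) * g) → Θ g = f := fun g f h =>
    Equiv.ext fun v => E.iota_injective (by rw [hΘ, h]; group)
  -- normalising elements
  have hnorm : ∀ (y : G) (f : Equiv.Perm (V F)), (∀ v, y * E.iota v = E.iota (f v) * y) → y ∈ N := by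
    intro y f h
    refine Subgroup.mem_normalizer_iff.2 fun z => ⟨fun hz => ?_, fun hz => ?_⟩
    · obtain ⟨v, rfl⟩ := (hM z).1 hz
      exact (hM _).2 ⟨f v, by rw [h]; group⟩
    · obtain ⟨v, hv⟩ := (hM _).1 hz
      refine (hM _).2 ⟨f⁻¹ v, ?_⟩
      have := h (f⁻¹ v)
      rw [← Equiv.Perm.mul_apply, mul_inv_cancel, Equiv.Perm.one_apply, hv] at this
      calc E.iota (f⁻¹ v) = y⁻¹ * (y * E.iota (f⁻¹ v)) := by group
        _ = z := by rw [this]; group
  have huN : ∀ s, E.uel s ∈ N := fun s => hnorm _ _ (E.uel_conj s)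
  have htN : ∀ d, E.tel d ∈ N := fun d => hnorm _ _ (E.tel_conj d)
  have hΘu : ∀ s, Θ ⟨E.uel s, huN s⟩ = U s := fun s => hΘeq _ _ (E.uel_conj s)
  have hΘt : ∀ d, Θ ⟨E.tel d, htN d⟩ = T d := fun d => hΘeq _ _ (E.tel_conj d)
  have hΘM : ∀ (g : N), (g : G) ∈ M → Θ g = 1 := fun g hg => hΘeq g 1 fun v =>
    congrArg Subtype.val (hMc.is_comm.comm (⟨(g : G), hg⟩ : M) ⟨E.iota v, (hM _).2 ⟨v, rfl⟩⟩)
  -- centralising a point of the root group
  have hroot : ∀ a : F, a ≠ 0 → ∀ y : G, y * E.iota (a, 0, 0) = E.iota (a, 0, 0) * y →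
      ∃ v c g, E.j v c g = y := by
    intro a ha y hy
    have hiz : E.iota (a, 0, 0) = E.j 0 a 1 := by rw [Emb.iota, uni_zero]; rfl
    rw [hiz] at hy
    have hz := hb (E.j 0 a 1) ((hC _).2 ⟨_, _, _, rfl⟩) (fun h => ha (E.inj (h.trans E.one.symm)).2.1)
      (fun c hc => by
        obtain ⟨v, c, g, rfl⟩ := (hC c).1 hc
        exact E.central a v c g)
    rw [← hC, ← hz, Subgroup.mem_centralizer_singleton_iff]
    exact hy
  have hstab : ∀ (g : N) (a : F), a ≠ 0 → Θ g (a, 0, 0) = (a, 0, 0) →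
      ∃ s d, Θ g = U s * T d := by
    intro g a ha hga
    have hga' := hΘ g (a, 0, 0)
    rw [hga, eq_mul_inv_iff_mul_eq] at hga'
    obtain ⟨v, c, l, hl⟩ := hroot a ha g hga'.symm
    have h10 : l.1 1 0 = 0 := by
      obtain ⟨w, hw⟩ : ∃ w, E.iota w = (g : G) * E.iota (0, 0, 1) * (g : G)⁻¹ := ⟨_, hΘ g _⟩
      rw [eq_mul_inv_iff_mul_eq, ← hl, Emb.iota, Emb.iota, E.mul', E.mul'] at hw
      have h := congrArg Subtype.val (E.inj hw).2.2
      rw [Matrix.SpecialLinearGroup.coe_mul, Matrix.SpecialLinearGroup.coe_mul] at h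
      have h := congrFun (congrFun h 1) 1
      simp [uni, Matrix.mul_apply, Fin.sum_univ_two] at h
      linear_combination h
    obtain ⟨d, m, hd⟩ := E.decomp v c l h10
    refine ⟨-v.2, d, ?_⟩
    have hmN : E.iota m ∈ N := hMN ((hM _).2 ⟨m, rfl⟩)
    have : g = ⟨E.uel (-v.2), huN _⟩ * ⟨E.tel d, htN d⟩ * ⟨E.iota m, hmN⟩ :=
      Subtype.ext (by rw [← hl, hd]; rfl)
    rw [this, map_mul, map_mul, hΘu, hΘt, hΘM ⟨_, hmN⟩ ((hM _).2 ⟨m, rfl⟩), mul_one]
  -- the kernel
  have hker : Θ.ker = M.subgroupOf N := by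
    ext g
    rw [MonoidHom.mem_ker, Subgroup.mem_subgroupOf]
    refine ⟨fun hg => ?_, hΘM g⟩
    have hcomm : ∀ v, (g : G) * E.iota v = E.iota v * g := fun v => by
      have := hΘ g v
      rw [hg, Equiv.Perm.one_apply, eq_mul_inv_iff_mul_eq] at this
      exact this.symm
    obtain ⟨⟨v1, v2⟩, c, l, hl⟩ := hroot 1 one_ne_zero g (hcomm (1, 0, 0))
    have h := hcomm (0, 1, 0)
    rw [← hl, Emb.iota, E.mul', E.mul', uni_zero, sa_one, mul_one, one_mul] at h
    obtain ⟨h1, h3, -⟩ := E.inj h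
    simp only [sa, mul_one, mul_zero, add_zero, Prod.mk_add_mk, zero_add, Prod.mk.injEq] at h1 h3
    have h00 : l.1 0 0 = 1 := by linear_combination h1.1
    have h10 : l.1 1 0 = 0 := by linear_combination h1.2
    have hv2 : v2 = 0 := by
      rw [h00, h10] at h3
      exact (mul_eq_zero.1 (show (2 : F) * v2 = 0 by linear_combination -h3)).resolve_left h2
    have h11 : l.1 1 1 = 1 := by
      have := sl2_det l
      rw [h00, h10] at this
      linear_combination this
    have hl' : l = uni (l.1 0 1) := Subtype.ext (by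
      ext i j; fin_cases i <;> fin_cases j <;> simp [uni, h00, h10, h11])
    refine (hM _).2 ⟨(c, v1, l.1 0 1), ?_⟩
    rw [← hl, hv2, Emb.iota]
    exact congrArg (E.j (v1, 0) c) hl'.symm
  set A := Θ.range with hA
  have hPN : (P : Subgroup G) ≤ N := by
    rw [hPU]
    intro y hy
    obtain ⟨v, c, s, rfl⟩ := E.mem_U0.1 hy
    obtain ⟨d, m, hd⟩ := E.decomp v c (uni s) (by simp [uni])
    rw [hd]
    exact mul_mem (mul_mem (huN _) (htN _)) (hMN ((hM _).2 ⟨m, rfl⟩))
  have hcentre : ∀ (u : G) (Pu : Sylow p G), orderOf u = p → u ∈ (Pu : Subgroup G) →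
      (∀ y ∈ (Pu : Subgroup G), y * u = u * y) → ∃ (g : G) (a : F), a ≠ 0 ∧ g * u * g⁻¹ = E.iota (a, 0, 0) := by
    intro u Pu hu huP huc
    obtain ⟨g, hg⟩ := MulAction.exists_smul_eq G Pu P
    have hmem : g * u * g⁻¹ ∈ E.U0 := by
      rw [← hPU, ← hg, Sylow.coe_subgroup_smul]
      exact ⟨u, huP, rfl⟩
    obtain ⟨a, ha⟩ := E.center_U0 h2 hmem fun w hw => by
      rw [← hPU, ← hg, Sylow.coe_subgroup_smul] at hw
      obtain ⟨w, hw, rfl⟩ := hw
      show g * w * g⁻¹ * (g * u * g⁻¹) = g * u * g⁻¹ * (g * w * g⁻¹)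
      calc g * w * g⁻¹ * (g * u * g⁻¹) = g * (w * u) * g⁻¹ := by group
        _ = _ := by rw [huc w hw]; group
    refine ⟨g, a, ?_, by rw [ha, Emb.iota, uni_zero]; rfl⟩
    rintro rfl
    rw [E.one] at ha
    have hu1 : u = 1 := by
      calc u = g⁻¹ * (g * u * g⁻¹) * g := by group
        _ = 1 := by rw [ha]; group
    rw [hu1, orderOf_one] at hu
    exact hp.one_lt.ne hu
  have K : Ctx p A := by
    refine ⟨hp, hchar, h4, ?_, ?_, fun s => ⟨_, hΘu s⟩, fun d => ⟨_, hΘt d⟩, ?_, ?_, ?_⟩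
    · rintro _ ⟨g, rfl⟩ v w
      apply E.iota_injective
      rw [hΘ, E.iota_add, E.iota_add, hΘ, hΘ]
      group
    · rintro _ ⟨g, rfl⟩ a ha h
      exact hstab g a ha h
    · -- some element moves the line
      by_contra hno
      push Not at hno
      let PN : Sylow p N := P.subtype hPN
      have hPUimg : ∀ g : N, g ∈ (PN : Subgroup N) ↔ ∃ s, Θ g = U s := by
        intro g
        rw [Sylow.coe_subtype, Subgroup.mem_subgroupOf, hPU]
        constructor
        · intro hg
          obtain ⟨v, c, s, hs⟩ := E.mem_U0.1 hg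
          obtain ⟨d, m, hd⟩ := E.decomp v c (uni s) (by simp [uni])
          have hd1 : d = 1 := by
            have h := hd
            rw [Emb.uel, Emb.tel, Emb.iota, uni_zero, E.mul', one_mul, E.mul'] at h
            have h' := congrArg Subtype.val (E.inj h).2.2
            rw [Matrix.SpecialLinearGroup.coe_mul] at h'
            have h' := congrFun (congrFun h' 0) 0
            simp [uni, dia, Matrix.mul_apply, Fin.sum_univ_two] at h'
            exact Units.ext h'.symm
          refine ⟨-v.2, ?_⟩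
          have hmN : E.iota m ∈ N := hMN ((hM _).2 ⟨m, rfl⟩)
          have : g = ⟨E.uel (-v.2), huN _⟩ * ⟨E.tel d, htN d⟩ * ⟨E.iota m, hmN⟩ :=
            Subtype.ext (by rw [← hs, hd]; rfl)
          rw [this, map_mul, map_mul, hΘu, hΘt, hΘM ⟨_, hmN⟩ ((hM _).2 ⟨m, rfl⟩), mul_one, hd1, T_one,
            mul_one]
        · rintro ⟨s, hs⟩
          have : (⟨E.uel s, huN s⟩ : N)⁻¹ * g ∈ Θ.ker := by
            rw [MonoidHom.mem_ker, map_mul, map_inv, hΘu, hs, inv_mul_cancel]
          rw [hker, Subgroup.mem_subgroupOf] at this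
          have h := mul_mem (show E.uel s ∈ E.U0 from E.j_mem_U0 _ _ _) (hMU this)
          rwa [Subgroup.coe_mul, Subgroup.coe_inv, mul_inv_cancel_left] at h
      have hnormal : (PN : Subgroup N).Normal := by
        refine ⟨fun x hx g => (hPUimg _).2 ?_⟩
        obtain ⟨s, hs⟩ := (hPUimg x).1 hx
        rw [map_mul, map_mul, map_inv, hs]
        obtain ⟨b, hbm⟩ := mem_Zs.1 (hno ((Θ g)⁻¹) (inv_mem ⟨g, rfl⟩) 1)
        obtain ⟨s', d, hsd⟩ := hstab (g * ⟨E.uel s, huN s⟩ * g⁻¹) 1 one_ne_zero (by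
          rw [map_mul, map_mul, map_inv, hΘu, Equiv.Perm.mul_apply, Equiv.Perm.mul_apply, hbm,
            show U s (b, 0, 0) = (b, 0, 0) by simp, ← hbm, ← Equiv.Perm.mul_apply, mul_inv_cancel,
            Equiv.Perm.one_apply])
        rw [map_mul, map_mul, map_inv, hΘu] at hsd
        obtain ⟨s'', hs''⟩ := UT_pow s' d p
        rw [← hsd, conj_pow, U_pow, CharP.cast_eq_zero, zero_mul, U_zero, mul_one, mul_inv_cancel] at hs''
        have hdp : d ^ p = 1 := by
          have := congrArg (fun f : Equiv.Perm (V F) => (f (0, 1, 0)).2.1) hs''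
          simp only [Equiv.Perm.one_apply, Equiv.Perm.mul_apply, T_apply, U_apply, mul_one, mul_zero,
            add_zero] at this
          exact Units.ext (by rw [← this, Units.val_one])
        have hd1 : d = 1 := by
          apply Units.ext
          have : (d : F) ^ p = 1 := by rw [← Units.val_pow_eq_pow_val, hdp, Units.val_one]
          rw [Units.val_one]
          exact frobenius_inj F p (by rw [frobenius_def, frobenius_def, this, one_pow])
        exact ⟨s', by rw [hsd, hd1, T_one, mul_one]⟩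
      obtain ⟨Q, R, hQR⟩ := hnc
      haveI := hnormal
      haveI := Sylow.unique_of_normal PN hnormal
      exact hQR (Subsingleton.elim _ _)
    · obtain ⟨u, v, Pu, Pv, hu, hv, huP, huc, hvP, hvc, hne⟩ := hc
      obtain ⟨g, a, ha, hga⟩ := hcentre u Pu hu huP huc
      obtain ⟨k, b, hb', hkb⟩ := hcentre v Pv hv hvP hvc
      refine ⟨a, b, ha, hb', ?_⟩
      rintro _ ⟨x, rfl⟩ hx
      refine hne (k⁻¹ * x * g) ?_
      have h := hΘ x (a, 0, 0)
      rw [hx, ← hga, ← hkb] at h
      calc k⁻¹ * (x : G) * g * u * (k⁻¹ * x * g)⁻¹ = k⁻¹ * ((x : G) * (g * u * g⁻¹) * (x : G)⁻¹) * k := by group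
        _ = v := by rw [← h]; group
    · intro Q hQA hQ
      have hMp : IsPGroup p (Θ.ker) := by
        rw [hker]
        exact (IsPGroup.of_card hMcard).of_equiv (Subgroup.subgroupOfEquivOfLe hMN).symm
      set Q' := Q.comap Θ with hQ'
      have hQ'p : IsPGroup p Q' := hQ.comap_of_ker_isPGroup Θ hMp
      have h1 : Nat.card Q' = Nat.card Θ.ker * Nat.card Q := by
        have hle : Θ.ker ≤ Q' := fun g hg => by
          show Θ g ∈ Q
          rw [MonoidHom.mem_ker.1 hg]; exact one_mem Q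
        have e : Nat.card (Θ.domRestrict Q').range = Nat.card Q := by
          rw [MonoidHom.domRestrict_range, hQ', Subgroup.map_comap_eq_self hQA]
        rw [Subgroup.card_eq_card_quotient_mul_card_subgroup (Θ.domRestrict Q').ker,
          Nat.card_congr (QuotientGroup.quotientKerEquivRange (Θ.domRestrict Q')).toEquiv, e, mul_comm]
        congr 1
        rw [MonoidHom.ker_domRestrict]
        exact Nat.card_congr (Subgroup.subgroupOfEquivOfLe hle).toEquiv
      obtain ⟨S, hS⟩ := (hQ'p.map N.subtype).exists_le_sylow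
      have h2' : Nat.card Q' ≤ Fintype.card F ^ 4 := by
        rw [Nat.card_congr (Q'.equivMapOfInjective N.subtype N.subtype_injective).toEquiv]
        refine (Nat.le_of_dvd Nat.card_pos (Subgroup.card_dvd_of_le hS)).trans (le_of_eq ?_)
        rw [← E.card_U0, ← hPU]
        exact Nat.card_congr (Sylow.equiv S P).toEquiv
      rw [h1, hker, Nat.card_congr (Subgroup.subgroupOfEquivOfLe hMN).toEquiv, hcard,
        pow_succ (Fintype.card F) 3] at h2'
      exact Nat.le_of_mul_le_mul_left h2' (pow_pos Fintype.card_pos 3)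
  obtain ⟨iso⟩ := K.structure_iso
  rw [hF] at iso
  -- the complement
  haveI : (M.subgroupOf N).Normal := Subgroup.normal_subgroupOf_of_le_normalizer le_rfl
  haveI : IsMulCommutative (M.subgroupOf N) := ⟨⟨fun a b => Subtype.ext (Subtype.ext (by
    simp only [Subgroup.coe_mul]
    exact congrArg Subtype.val
      (hMc.is_comm.comm (⟨((a : N) : G), a.2⟩ : M) ⟨((b : N) : G), b.2⟩)))⟩⟩
  let A0 : Subgroup N :=
    { carrier := Set.range fun s : F => (⟨E.uel s, huN s⟩ : N)
      one_mem' := ⟨0, Subtype.ext (by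
        show E.uel 0 = 1
        rw [Emb.uel, uni_zero, neg_zero]; exact E.one)⟩
      mul_mem' := by
        rintro _ _ ⟨s, rfl⟩ ⟨t, rfl⟩
        refine ⟨s + t, Subtype.ext ?_⟩
        show E.uel (s + t) = E.uel s * E.uel t
        rw [Emb.uel, Emb.uel, Emb.uel, E.uni_mul_uni]
        congr 1 <;> simp [add_comm]
      inv_mem' := by
        rintro _ ⟨s, rfl⟩
        refine ⟨-s, (inv_eq_of_mul_eq_one_right (Subtype.ext ?_)).symm⟩
        show E.uel s * E.uel (-s) = 1
        rw [Emb.uel, Emb.uel, E.uni_mul_uni, ← E.one, ← uni_zero]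
        congr 1 <;> simp }
  obtain ⟨H, hH⟩ := H2.gaschutz_exists (K := M.subgroupOf N) (U := (P : Subgroup G).subgroupOf N)
    (fun g hg => hMP hg)
    (by
      rw [Nat.card_congr (Subgroup.subgroupOfEquivOfLe hMN).toEquiv, hMcard]
      refine Nat.Coprime.pow_left _ ((hp.coprime_iff_not_dvd).2 ?_)
      exact (P.subtype hPN).not_dvd_index)
    A0
    (by
      rintro _ ⟨s, rfl⟩
      show E.uel s ∈ (P : Subgroup G)
      rw [hPU]; exact E.j_mem_U0 _ _ _)
    (by
      rw [eq_bot_iff]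
      rintro g ⟨⟨s, rfl⟩, hg⟩
      obtain ⟨v, hv⟩ := (hM _).1 hg
      obtain ⟨e1, -, -⟩ := E.inj hv
      have hs : s = 0 := neg_eq_zero.1 (congrArg Prod.snd e1).symm
      subst hs
      rw [Subgroup.mem_bot]
      refine Subtype.ext ?_
      show E.uel 0 = 1
      rw [Emb.uel, uni_zero, neg_zero]; exact E.one)
    (by
      refine le_antisymm (sup_le (fun g hg => hMP hg) ?_) ?_
      · rintro _ ⟨s, rfl⟩
        show E.uel s ∈ (P : Subgroup G)
        rw [hPU]; exact E.j_mem_U0 _ _ _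
      · intro g hg
        rw [Subgroup.mem_subgroupOf, hPU] at hg
        obtain ⟨⟨v1, v2⟩, c, t, hg'⟩ := E.mem_U0.1 hg
        have hm : (⟨E.uel (-v2), huN _⟩ : N)⁻¹ * g ∈ M.subgroupOf N := by
          rw [Subgroup.mem_subgroupOf, Subgroup.coe_mul, Subgroup.coe_inv]
          refine (hM _).2 ⟨(c + v2 * v1, v1, t), eq_inv_mul_of_mul_eq ?_⟩
          show E.uel (-v2) * _ = _
          rw [← hg', Emb.uel, Emb.iota, E.uni_mul_uni]
          congr 1 <;> simp
        have e : g = ⟨E.uel (-v2), huN _⟩ * (⟨E.uel (-v2), huN _⟩⁻¹ * g) := by group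
        rw [e]
        exact mul_mem (Subgroup.mem_sup_right ⟨_, rfl⟩) (Subgroup.mem_sup_left hm))
  refine ⟨H.map N.subtype, Subgroup.map_subtype_le _, ?_, ?_, ?_⟩
  · have h := congrArg (Subgroup.map N.subtype) hH.sup_eq_top
    rwa [Subgroup.map_sup, Subgroup.map_subgroupOf_eq_of_le hMN, ← MonoidHom.range_eq_map,
      Subgroup.range_subtype] at h
  · rw [← Subgroup.map_subgroupOf_eq_of_le hMN, ← Subgroup.map_inf _ _ _ N.subtype_injective,
      hH.disjoint.eq_bot, Subgroup.map_bot]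
  · exact ⟨(H.equivMapOfInjective N.subtype N.subtype_injective).symm.trans
      ((hH.symm.QuotientMulEquiv).symm.trans ((QuotientGroup.quotientMulEquivOfEq hker.symm).trans
        ((QuotientGroup.quotientKerEquivRange Θ).trans iso)))⟩

end H40.PSpLocal
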