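import Cfsg.Agent.H40.PSpLocal.Count

/-!
The number of conjugates of the fixed line inside the fixed plane of the involution is two.
-/

set_option autoImplicit false
set_option linter.style.haveILetI false

open Matrix

namespace H40.PSpLocal

variable {F : Type*} [Field F] [Fintype F] {p : ℕ} {A : Subgroup (Equiv.Perm (V F))}

omit [Fintype F] in
theorem coe_smul_set (f g : Equiv.Perm (V F)) (X : Set (V F)) : (f * g) '' X = f '' (g '' X) := by
  rw [Equiv.Perm.coe_mul, Set.image_comp]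

omit [Fintype F] in
theorem image_inv {f : Equiv.Perm (V F)} {X Y : Set (V F)} (h : f '' X = Y) : ⇑(f⁻¹) '' Y = X := by
  rw [← h, ← coe_smul_set, inv_mul_cancel, Equiv.Perm.coe_one, Set.image_id]

/-- the elements commuting with the involution -/
def Cset (A : Subgroup (Equiv.Perm (V F))) : Set (Equiv.Perm (V F)) := {f | f ∈ A ∧ Commute f tau}

theorem commute_V0 {f : Equiv.Perm (V F)} (K : Ctx p A) (h : Commute f tau) {v : V F}
    (hv : v ∈ (V0 : Set (V F))) : f v ∈ (V0 : Set (V F)) := by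
  have h2 := two_ne K.four
  refine (tau_fix_iff h2).1 ?_
  rw [← Equiv.Perm.mul_apply, ← h.eq, Equiv.Perm.mul_apply, (tau_fix_iff h2).2 hv]

omit [Fintype F] in
theorem Zs_subset_V0 : (Zs : Set (V F)) ⊆ V0 := fun _ h => h.1

theorem Ctx.mem_om0_iff (K : Ctx p A) (X : Set (V F)) :
    X ∈ Om0 A ↔ ∃ c ∈ Cset A, c '' Zs = X := by
  constructor
  · rintro ⟨⟨g, hg, rfl⟩, hsub⟩
    obtain ⟨c, s, rfl, hc⟩ := K.exists_comm hg hsub
    exact ⟨_, ⟨mul_mem hg (K.mem_U s), hc⟩, by rw [coe_smul_set, U_image_Zs]⟩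
  · rintro ⟨c, ⟨hc, hcc⟩, rfl⟩
    exact ⟨⟨c, hc, rfl⟩, fun v ⟨z, hz, e⟩ => e ▸ commute_V0 K hcc (Zs_subset_V0 hz)⟩

theorem Ctx.zs_mem_om0 (K : Ctx p A) : (Zs : Set (V F)) ∈ Om0 A := ⟨K.zs_mem_om, Zs_subset_V0⟩

/-- `r = 1 + q (s - 1)` -/
theorem Ctx.card_om (K : Ctx p A) :
    (Om A).ncard = 1 + Fintype.card F * ((Om0 A).ncard - 1) := by
  classical
  have hbij : Set.BijOn (fun q : F × Set (V F) => U (-q.1) '' q.2)
      ((Set.univ : Set F) ×ˢ (Om0 A \ {Zs})) (Om A \ {Zs}) := by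
    refine ⟨?_, ?_, ?_⟩
    · rintro ⟨s, Y⟩ ⟨-, hY, hne⟩
      refine ⟨K.smul_om (K.mem_U _) hY.1, fun h => hne ?_⟩
      have := image_inv (Set.mem_singleton_iff.1 h)
      rw [U_inv, neg_neg, U_image_Zs] at this
      exact Set.mem_singleton_iff.2 this.symm
    · rintro ⟨s, Y⟩ ⟨-, hY, hne⟩ ⟨t, Y'⟩ ⟨-, hY', hne'⟩ h
      simp only at h
      have hY2 : Y' = U t '' (U (-s) '' Y) := by
        rw [h, ← coe_smul_set, U_mul, add_neg_cancel, U_zero, Equiv.Perm.coe_one, Set.image_id]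
      have hst : s = t := K.shift_unique (K.smul_om (K.mem_U (-s)) hY.1)
        (fun e => hne (Set.mem_singleton_iff.2 (by
          have := image_inv e
          rw [U_inv, neg_neg, U_image_Zs] at this
          exact this.symm)))
        (by rw [← coe_smul_set, U_mul, add_neg_cancel, U_zero, Equiv.Perm.coe_one, Set.image_id]; exact hY.2)
        (hY2 ▸ hY'.2)
      subst hst
      rw [hY2, ← coe_smul_set, U_mul, add_neg_cancel, U_zero, Equiv.Perm.coe_one, Set.image_id]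
    · rintro X ⟨hX, hne⟩
      obtain ⟨s, hs⟩ := K.classify hX hne
      refine ⟨(s, U s '' X), ⟨trivial, ⟨K.smul_om (K.mem_U s) hX, hs⟩, fun h => hne ?_⟩, ?_⟩
      · have := image_inv (Set.mem_singleton_iff.1 h)
        rw [U_inv, U_image_Zs] at this
        exact Set.mem_singleton_iff.2 this.symm
      · show U (-s) '' (U s '' X) = X
        rw [← coe_smul_set, U_mul, neg_add_cancel, U_zero, Equiv.Perm.coe_one, Set.image_id]
  have h := hbij.image_eq ▸ (Set.ncard_image_of_injOn hbij.injOn)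
  rw [Set.ncard_prod, Set.ncard_univ, Nat.card_eq_fintype_card,
    Set.ncard_sdiff_singleton_of_mem K.zs_mem_om, Set.ncard_sdiff_singleton_of_mem K.zs_mem_om0] at h
  have : 0 < (Om A).ncard := (Set.ncard_pos (Set.toFinite _)).2 ⟨_, K.zs_mem_om⟩
  omega

/-- fibrewise counting -/
theorem ncard_image_mul {S : Set (Equiv.Perm (V F))} {O : Set (Set (V F))} {M : Set (Equiv.Perm (V F))}
    (hO : ∀ X, X ∈ O ↔ ∃ c ∈ S, c '' Zs = X) (hM : M = {f | f ∈ S ∧ f '' Zs = Zs})
    (hmul : ∀ c ∈ S, ∀ f ∈ S, c * f ∈ S) (hinv : ∀ c ∈ S, c⁻¹ ∈ S) :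
    S.ncard = O.ncard * M.ncard := by
  classical
  subst hM
  choose! rep hrep hrep' using fun X hX => (hO X).1 hX
  have hbij : Set.BijOn (fun q : Set (V F) × Equiv.Perm (V F) => rep q.1 * q.2)
      (O ×ˢ {f | f ∈ S ∧ f '' Zs = Zs}) S := by
    refine ⟨fun q hq => hmul _ (hrep _ hq.1) _ hq.2.1, ?_, ?_⟩
    · rintro ⟨X, f⟩ ⟨hX, hf, hfZ⟩ ⟨Y, g⟩ ⟨hY, hg, hgZ⟩ h
      simp only at h
      have : X = Y := by
        rw [← hrep' X hX, ← hrep' Y hY]
        conv_lhs => rw [← hfZ, ← coe_smul_set, h, coe_smul_set, hgZ]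
      subst this
      rw [mul_left_cancel h]
    · intro c hc
      have hX : c '' Zs ∈ O := (hO _).2 ⟨c, hc, rfl⟩
      refine ⟨(c '' Zs, (rep (c '' Zs))⁻¹ * c), ⟨hX, hmul _ (hinv _ (hrep _ hX)) _ hc, ?_⟩, ?_⟩
      · rw [coe_smul_set]; exact image_inv (hrep' _ hX)
      · show rep _ * ((rep _)⁻¹ * c) = c
        rw [mul_inv_cancel_left]
  have h := hbij.image_eq ▸ (Set.ncard_image_of_injOn hbij.injOn)
  rw [h, Set.ncard_prod]

theorem Cset_mul {c f : Equiv.Perm (V F)} (hc : c ∈ Cset A) (hf : f ∈ Cset A) : c * f ∈ Cset A :=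
  ⟨mul_mem hc.1 hf.1, hc.2.mul_left hf.2⟩

theorem Cset_inv {c : Equiv.Perm (V F)} (hc : c ∈ Cset A) : c⁻¹ ∈ Cset A :=
  ⟨inv_mem hc.1, hc.2.inv_left⟩

/-- the normaliser inside the centraliser -/
def N0 (A : Subgroup (Equiv.Perm (V F))) : Set (Equiv.Perm (V F)) := {f | f ∈ Cset A ∧ f '' Zs = Zs}

theorem Ctx.card_cset (K : Ctx p A) : (Cset A).ncard = (Om0 A).ncard * (N0 A).ncard :=
  ncard_image_mul K.mem_om0_iff rfl (fun _ hc _ hf => Cset_mul hc hf) fun _ hc => Cset_inv hc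

theorem Ctx.card_A (K : Ctx p A) :
    Nat.card A = (Om A).ncard * (Fintype.card F * (N0 A).ncard) := by
  classical
  have h1 : (A : Set (Equiv.Perm (V F))).ncard = (Om A).ncard * (N A).ncard :=
    ncard_image_mul (S := (A : Set (Equiv.Perm (V F)))) (O := Om A) (fun X => by
      constructor
      · rintro ⟨f, hf, h⟩; exact ⟨f, hf, h.symm⟩
      · rintro ⟨f, hf, h⟩; exact ⟨f, hf, h.symm⟩) rfl (fun _ hc _ hf => mul_mem hc hf) fun _ hc => inv_mem hc
  have hbij : Set.BijOn (fun q : F × Equiv.Perm (V F) => q.2 * U q.1)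
      ((Set.univ : Set F) ×ˢ N0 A) (N A) := by
    refine ⟨?_, ?_, ?_⟩
    · rintro ⟨s, f⟩ ⟨-, hf, hfZ⟩
      exact ⟨mul_mem hf.1 (K.mem_U s), by rw [coe_smul_set, U_image_Zs, hfZ]⟩
    · rintro ⟨s, f⟩ ⟨-, hf, -⟩ ⟨t, g⟩ ⟨-, hg, -⟩ h
      simp only at h
      have hf' : f = g * U (t - s) := by
        rw [sub_eq_add_neg, ← U_mul, ← mul_assoc, ← h, mul_assoc, U_mul, add_neg_cancel, U_zero, mul_one]
      have := K.comm_unique (g := g) (s := t - s) (s' := 0) (hf' ▸ hf.2) (by rw [U_zero, mul_one]; exact hg.2)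
      rw [this, U_zero, mul_one] at hf'
      rw [sub_eq_zero] at this
      rw [hf', this]
    · rintro g ⟨hg, hgZ⟩
      obtain ⟨c, s, rfl, hc⟩ := K.exists_comm hg (by rw [hgZ]; exact Zs_subset_V0)
      exact ⟨(-s, g * U s), ⟨trivial, ⟨mul_mem hg (K.mem_U s), hc⟩, by rw [coe_smul_set, U_image_Zs, hgZ]⟩,
        by show g * U s * U (-s) = g; rw [mul_assoc, U_mul, add_neg_cancel, U_zero, mul_one]⟩
  have h2 := hbij.image_eq ▸ (Set.ncard_image_of_injOn hbij.injOn)
  rw [Set.ncard_prod, Set.ncard_univ, Nat.card_eq_fintype_card] at h2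
  rw [← Nat.card_coe_set_eq] at h1
  rw [← h2, ← h1]
  rfl

/-- the centraliser of the involution as a subgroup -/
def Csub (A : Subgroup (Equiv.Perm (V F))) : Subgroup (Equiv.Perm (V F)) :=
  A ⊓ Subgroup.centralizer {tau}

theorem coe_Csub : (Csub A : Set (Equiv.Perm (V F))) = Cset A := by
  ext f
  simp only [Csub, Subgroup.coe_inf, Set.mem_inter_iff, SetLike.mem_coe,
    Subgroup.mem_centralizer_singleton_iff]
  rfl

/-- the unipotent group -/
def Usub (F : Type*) [Field F] : Subgroup (Equiv.Perm (V F)) where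
  carrier := Set.range U
  one_mem' := ⟨0, U_zero⟩
  mul_mem' := by rintro _ _ ⟨s, rfl⟩ ⟨t, rfl⟩; exact ⟨s + t, (U_mul s t).symm⟩
  inv_mem' := by rintro _ ⟨s, rfl⟩; exact ⟨-s, (U_inv s).symm⟩

omit [Fintype F] in
theorem U_injective : Function.Injective (U : F → Equiv.Perm (V F)) := fun s t h => by
  have := congrArg (fun f : Equiv.Perm (V F) => (f (0, 0, 1)).2.1) h
  simpa using this

theorem Ctx.exists_pow (K : Ctx p A) : ∃ n : ℕ, Fintype.card F = p ^ n := by
  haveI := K.char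
  obtain ⟨n, -, hn⟩ := FiniteField.card F p
  exact ⟨n, hn⟩

/-- no element of order `p` commutes with the involution -/
theorem Ctx.not_dvd (K : Ctx p A) : ¬ p ∣ Nat.card (Csub A) := by
  intro hdvd
  haveI : Fact p.Prime := ⟨K.prime⟩
  haveI := K.char
  obtain ⟨⟨u, hu⟩, hord⟩ := exists_prime_orderOf_dvd_card' p hdvd
  rw [Subgroup.orderOf_mk] at hord
  obtain ⟨huA, huC⟩ : u ∈ A ∧ Commute u tau := ⟨hu.1, Subgroup.mem_centralizer_singleton_iff.1 hu.2⟩
  obtain ⟨n, hn⟩ := K.exists_pow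
  have hUA : Usub F ≤ A := by rintro _ ⟨s, rfl⟩; exact K.mem_U s
  have hcard : Nat.card (Usub F) = Fintype.card F := by
    rw [show Nat.card (Usub F) = Nat.card (Set.range (U : F → Equiv.Perm (V F))) from rfl,
      Nat.card_range_of_injective U_injective, Nat.card_eq_fintype_card]
  have hUp : IsPGroup p ((Usub F).subgroupOf A) :=
    IsPGroup.of_card (n := n) (by rw [Nat.card_congr (Subgroup.subgroupOfEquivOfLe hUA).toEquiv, hcard, hn])
  obtain ⟨P0, hP0⟩ := hUp.exists_le_sylow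
  have hP0eq : (P0 : Subgroup A) = (Usub F).subgroupOf A := by
    refine (Subgroup.eq_of_le_of_card_ge hP0 ?_).symm
    rw [Nat.card_congr (Subgroup.subgroupOfEquivOfLe hUA).toEquiv, hcard,
      Nat.card_congr ((P0 : Subgroup A).equivMapOfInjective A.subtype A.subtype_injective).toEquiv]
    exact K.sylow _ (Subgroup.map_subtype_le _) (P0.isPGroup'.map _)
  have hup : IsPGroup p (Subgroup.zpowers (⟨u, huA⟩ : A)) :=
    IsPGroup.of_card (n := 1) (by rw [Nat.card_zpowers, Subgroup.orderOf_mk, hord, pow_one])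
  obtain ⟨P1, hP1⟩ := hup.exists_le_sylow
  obtain ⟨g, hg⟩ := MulAction.exists_smul_eq A P1 P0
  have hmem : g * ⟨u, huA⟩ * g⁻¹ ∈ (P0 : Subgroup A) := by
    rw [← hg, Sylow.coe_subgroup_smul]
    exact ⟨_, hP1 (Subgroup.mem_zpowers _), rfl⟩
  rw [hP0eq, Subgroup.mem_subgroupOf] at hmem
  obtain ⟨s, hs⟩ : ∃ s, U s = (g : Equiv.Perm (V F)) * u * (g : Equiv.Perm (V F))⁻¹ := hmem
  have h2 := two_ne K.four
  have hs0 : s ≠ 0 := by
    rintro rfl
    rw [U_zero] at hs
    have : u = 1 := by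
      calc u = (g : Equiv.Perm (V F))⁻¹ * ((g : Equiv.Perm (V F)) * u * (g : Equiv.Perm (V F))⁻¹) *
          (g : Equiv.Perm (V F)) := by group
        _ = 1 := by rw [← hs]; group
    rw [this, orderOf_one] at hord
    exact K.prime.one_lt.ne hord
  -- the p-group generated by u on the fixed plane
  let X : Type _ := {v : V F // v ∈ (V0 : Set (V F))}
  letI : MulAction (Subgroup.zpowers u) X :=
    { smul := fun h v => ⟨(h : Equiv.Perm (V F)) v.1, commute_V0 K (by
        obtain ⟨k, hk⟩ := Subgroup.mem_zpowers_iff.1 h.2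
        rw [← hk]; exact huC.zpow_left k) v.2⟩
      one_smul := fun v => rfl
      mul_smul := fun a b v => rfl }
  have hpg : IsPGroup p (Subgroup.zpowers u) :=
    IsPGroup.of_card (n := 1) (by rw [Nat.card_zpowers, hord, pow_one])
  have h0 : (0 : V F) ∈ (V0 : Set (V F)) := rfl
  have hfix0 : (⟨0, h0⟩ : X) ∈ MulAction.fixedPoints (Subgroup.zpowers u) X := fun h => by
    obtain ⟨k, hk⟩ := Subgroup.mem_zpowers_iff.1 h.2
    apply Subtype.ext
    show (h : Equiv.Perm (V F)) 0 = 0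
    rw [← hk]
    exact K.map_zero (Subgroup.zpow_mem A huA k)
  have hX : p ∣ Nat.card X := by
    have e : X ≃ F × F :=
      { toFun := fun v => (v.1.1, v.1.2.2)
        invFun := fun w => ⟨(w.1, 0, w.2), rfl⟩
        left_inv := fun v => by
          obtain ⟨⟨a, b, c⟩, hb⟩ := v
          have : b = 0 := hb
          subst this; rfl
        right_inv := fun w => rfl }
    rw [Nat.card_congr e, Nat.card_prod, Nat.card_eq_fintype_card, hn]
    exact Dvd.dvd.mul_right (dvd_pow_self p (by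
      rintro rfl
      have := Fintype.one_lt_card (α := F)
      simp [hn] at this)) _
  obtain ⟨⟨v, hv⟩, hvfix, hvne⟩ :=
    hpg.exists_fixed_point_of_prime_dvd_card_of_fixed_point X hX hfix0
  have huv : u v = v := congrArg Subtype.val (hvfix ⟨u, Subgroup.mem_zpowers u⟩)
  have hv0 : v ≠ 0 := fun h => hvne (Subtype.ext h.symm)
  -- v lies in a conjugate of the line
  have hgv : (g : Equiv.Perm (V F)) v ∈ (Zs : Set (V F)) := by
    have hfix : U s ((g : Equiv.Perm (V F)) v) = (g : Equiv.Perm (V F)) v := by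
      rw [hs]; simp [huv]
    generalize (g : Equiv.Perm (V F)) v = w at hfix ⊢
    obtain ⟨a, b, c⟩ := w
    simp only [U_apply, Prod.mk.injEq] at hfix
    have hc : c = 0 := (mul_eq_zero.1 (show s * c = 0 by linear_combination hfix.2.1)).resolve_left hs0
    subst hc
    exact ⟨(mul_eq_zero.1 (show (2 * s) * b = 0 by linear_combination hfix.1)).resolve_left
      (mul_ne_zero h2 hs0), rfl⟩
  -- its line lies in the plane
  obtain ⟨a, hga⟩ := mem_Zs.1 hgv
  have ha : a ≠ 0 := fun h => hv0 ((g : Equiv.Perm (V F)).injective (by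
    rw [hga, h, K.map_zero g.2]; rfl))
  obtain ⟨t, d, htd⟩ := K.stab ((g : Equiv.Perm (V F)) * tau * (g : Equiv.Perm (V F))⁻¹)
    (mul_mem (mul_mem g.2 K.tau_mem) (inv_mem g.2)) a ha (by rw [← hga]; simp [(tau_fix_iff h2).2 hv])
  have hc : Commute (U s) (U t * T d) := by
    rw [hs, ← htd]
    exact (Commute.conj_iff _).2 huC
  rcases K.invol htd (by
    calc (g : Equiv.Perm (V F)) * tau * (g : Equiv.Perm (V F))⁻¹ *
        ((g : Equiv.Perm (V F)) * tau * (g : Equiv.Perm (V F))⁻¹)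
        = (g : Equiv.Perm (V F)) * (tau * tau) * (g : Equiv.Perm (V F))⁻¹ := by group
      _ = 1 := by rw [tau_sq]; group) with h' | h'
  · apply K.tau_ne
    calc tau = (g : Equiv.Perm (V F))⁻¹ *
        ((g : Equiv.Perm (V F)) * tau * (g : Equiv.Perm (V F))⁻¹) * (g : Equiv.Perm (V F)) := by group
      _ = 1 := by rw [h']; group
  · rw [← htd, h'] at hc
    have hc' : Commute (U s) tau := by
      have e : U (t / 2) * U s * (U (t / 2))⁻¹ = U s := by
        rw [U_mul, U_inv, U_mul]; congr 1; ring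
      rw [← e] at hc
      exact (Commute.conj_iff _).1 hc
    have := K.comm_unique (g := (1 : Equiv.Perm (V F))) (s := s) (s' := 0) (by rwa [one_mul])
      (by rw [U_zero, one_mul]; exact Commute.one_left _)
    exact hs0 this

/-- **Two conjugates of the line in the plane.** -/
theorem Ctx.card_om0 (K : Ctx p A) : (Om0 A).ncard = 2 := by
  classical
  set s := (Om0 A).ncard with hs
  set q := Fintype.card F with hq
  have hC : Nat.card (Csub A) = s * (N0 A).ncard := by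
    rw [← K.card_cset, ← coe_Csub]
    rfl
  have hdvd : Nat.card (Csub A) ∣ Nat.card A := Subgroup.card_dvd_of_le inf_le_left
  have hN : 0 < (N0 A).ncard :=
    (Set.ncard_pos (Set.toFinite _)).2 ⟨1, ⟨one_mem A, Commute.one_left _⟩, by simp⟩
  rw [hC, K.card_A, ← mul_assoc] at hdvd
  have hsr : s ∣ (Om A).ncard * q := Nat.dvd_of_mul_dvd_mul_right hN hdvd
  obtain ⟨n, hn⟩ := K.exists_pow
  have hpn : Nat.Coprime s q := by
    rw [hq, hn]
    refine Nat.Coprime.pow_right n ((K.prime.coprime_iff_not_dvd).2 fun h => K.not_dvd ?_).symm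
    rw [hC]
    exact dvd_mul_of_dvd_left h _
  have hr : s ∣ (Om A).ncard := hpn.dvd_of_dvd_mul_right hsr
  rw [K.card_om] at hr
  -- at least two
  have h2le : 2 ≤ s := by
    obtain ⟨f, hf, a, hfa⟩ := K.moved
    have hne : f '' Zs ≠ Zs := fun h => hfa (h ▸ Set.mem_image_of_mem f ⟨rfl, rfl⟩)
    obtain ⟨t, ht⟩ := K.classify ⟨f, hf, rfl⟩ hne
    refine (Set.one_lt_ncard (Set.toFinite _)).2
      ⟨Zs, K.zs_mem_om0, U t '' (f '' Zs), ⟨K.smul_om (K.mem_U t) ⟨f, hf, rfl⟩, ht⟩, fun h => hne ?_⟩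
    have := image_inv h.symm
    rw [U_inv, U_image_Zs] at this
    exact this.symm
  have hdiv : s ∣ q - 1 := by
    have e : 1 + q * (s - 1) + (q - 1) = q * s := by
      obtain ⟨j, hj⟩ : ∃ j, s = j + 1 := ⟨s - 1, by omega⟩
      have : 1 ≤ q := Fintype.card_pos
      rw [hj]
      simp only [Nat.add_sub_cancel, mul_add, mul_one]
      omega
    exact (Nat.dvd_add_right hr).1 (e ▸ dvd_mul_left s q)
  -- the torus on the other lines
  set h := (q - 1) / 2 with hh
  have hq4 := K.four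
  have hqh : q - 1 = 2 * h ∧ h % 2 = 1 := by omega
  let Sq : Subgroup Fˣ := (powMonoidHom 2).range
  have hSq : Nat.card Sq = h := by
    show Nat.card (powMonoidHom 2 : Fˣ →* Fˣ).range = h
    rw [IsCyclic.card_powMonoidHom_range, Nat.card_eq_fintype_card, Fintype.card_units]
    have : Nat.gcd (q - 1) 2 = 2 := Nat.gcd_eq_right ⟨h, hqh.1⟩
    rw [this]
  have hfree : ∀ d ∈ Sq, d ≠ 1 → (d : F) * d ≠ 1 := by
    intro d hd hd1 hdd
    apply hd1
    have o1 : orderOf d ∣ 2 := orderOf_dvd_of_pow_eq_one (Units.ext (by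
      rw [Units.val_pow_eq_pow_val, pow_two, hdd, Units.val_one]))
    have o2 : orderOf d ∣ h := by rw [← hSq, ← Subgroup.orderOf_mk d hd]; exact orderOf_dvd_natCard _
    have : orderOf d ∣ 1 := by
      have := Nat.dvd_gcd o1 o2
      rwa [show Nat.gcd 2 h = 1 from (Nat.prime_two.coprime_iff_not_dvd).2 (by omega)] at this
    exact orderOf_eq_one_iff.1 (Nat.dvd_one.1 this)
  let X : Type _ := {Y : Set (V F) // Y ∈ Om0 A ∧ Y ≠ Zs ∧ Y ≠ Ws}
  have hTW : ∀ d : Fˣ, T d '' (Ws : Set (V F)) ⊆ Ws := by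
    rintro d _ ⟨⟨a, b, c⟩, ⟨ha, hb⟩, rfl⟩
    simp only at ha hb
    subst ha hb
    exact ⟨by simp, by simp⟩
  have hTimg : ∀ (d : Fˣ) (Y : Set (V F)), Y ∈ Om0 A ∧ Y ≠ Zs ∧ Y ≠ Ws →
      T d '' Y ∈ Om0 A ∧ T d '' Y ≠ Zs ∧ T d '' Y ≠ Ws := by
    rintro d Y ⟨hY, h1, h2⟩
    refine ⟨⟨K.smul_om (K.mem_T d) hY.1, ?_⟩, fun e => h1 ?_, fun e => h2 ?_⟩
    · rintro _ ⟨⟨a, b, c⟩, hv, rfl⟩
      have hb : b = 0 := hY.2 hv
      subst hb
      show (T d (a, 0, c)).2.1 = 0
      simp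
    · have := image_inv e
      rwa [T_inv, T_image_Zs, eq_comm] at this
    · have e1 := image_inv e
      rw [T_inv] at e1
      refine Set.eq_of_subset_of_ncard_le (e1 ▸ hTW _) ?_ (Set.toFinite _)
      rw [← e1, Set.ncard_image_of_injective _ (Equiv.injective _)]
  letI : MulAction Sq X :=
    { smul := fun d Y => ⟨T (d : Fˣ) '' Y.1, hTimg _ _ Y.2⟩
      one_smul := fun Y => Subtype.ext (by
        show T ((1 : Sq) : Fˣ) '' Y.1 = Y.1
        rw [OneMemClass.coe_one, T_one, Equiv.Perm.coe_one, Set.image_id])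
      mul_smul := fun d e Y => Subtype.ext (by
        show T ((d * e : Sq) : Fˣ) '' Y.1 = T (d : Fˣ) '' (T (e : Fˣ) '' Y.1)
        rw [Subgroup.coe_mul, ← T_mul, coe_smul_set]) }
  have hstab : ∀ Y : X, MulAction.stabilizer Sq Y = ⊥ := by
    rintro ⟨Y, hY, hY1, hY2⟩
    rw [eq_bot_iff]
    rintro ⟨d, hd⟩ hfixY
    have hfixY' : T d '' Y = Y := congrArg Subtype.val hfixY
    rw [Subgroup.mem_bot, Subgroup.mk_eq_one]
    by_contra hd1
    have hdd := sub_ne_zero.2 (hfree d hd hd1)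
    obtain ⟨⟨g, hg, rfl⟩, hsub⟩ := hY
    have hsub' : ∀ v ∈ g '' Zs, ∀ w ∈ g '' Zs, v - w ∈ g '' Zs := by
      rintro _ ⟨x, hx, rfl⟩ _ ⟨y, hy, rfl⟩
      exact ⟨x - y, ⟨by simp [hx.1, hy.1], by simp [hx.2, hy.2]⟩, K.map_sub hg _ _⟩
    have hc0 : ∀ v ∈ g '' Zs, v.2.2 = 0 → v = 0 := by
      intro v hv hc
      by_contra hv0
      exact hY1 (K.om_eq ⟨g, hg, rfl⟩ K.zs_mem_om hv ⟨hsub hv, hc⟩ hv0)
    let ψ : ↥(g '' Zs) → ↥(g '' Zs) := fun v => ⟨T d v.1 - v.1,
      hsub' _ (hfixY'.subset ⟨v.1, v.2, rfl⟩) _ v.2⟩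
    have hψ : Function.Injective ψ := by
      rintro ⟨v, hv⟩ ⟨w, hw⟩ e
      apply Subtype.ext
      have e' : (T d v - v).2.2 = (T d w - w).2.2 := congrArg (fun z : ↥(g '' Zs) => z.1.2.2) e
      obtain ⟨a, b, c⟩ := v
      obtain ⟨a', b', c'⟩ := w
      simp only [T_apply, Prod.snd_sub] at e'
      refine sub_eq_zero.1 (hc0 _ (hsub' _ hv _ hw) ?_)
      simp only [Prod.snd_sub]
      exact (mul_eq_zero.1 (show ((d : F) * d - 1) * (c - c') = 0 by linear_combination e')).resolve_left hdd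
    apply hY2
    refine Set.eq_of_subset_of_ncard_le (fun v hv => ?_) ?_ (Set.toFinite _)
    · obtain ⟨⟨w, hw⟩, e⟩ := (Finite.injective_iff_surjective.1 hψ) ⟨v, hv⟩
      have e' : T d w - w = v := congrArg Subtype.val e
      obtain ⟨a, b, c⟩ := w
      have hb : b = 0 := hsub hw
      subst hb
      rw [← e']
      exact ⟨by simp, by simp⟩
    · rw [Set.ncard_image_of_injective _ (Equiv.injective _)]
      have e : (Ws : Set (V F)) = (fun v : V F => (v.2.2, v.2.1, v.1)) '' Zs := by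
        ext ⟨a, b, c⟩
        refine ⟨fun hw => ⟨(c, 0, 0), ⟨rfl, rfl⟩, ?_⟩, ?_⟩
        · obtain ⟨ha, hb⟩ := hw
          simp only at ha hb
          subst ha hb
          rfl
        · rintro ⟨⟨x, y, z⟩, ⟨hy, hz⟩, hxyz⟩
          simp only [Prod.mk.injEq] at hxyz hy hz
          exact ⟨hxyz.1.symm.trans hz, hxyz.2.1.symm.trans hy⟩
      rw [e]
      exact Set.ncard_image_le (Set.toFinite _)
  have hX : h ∣ Nat.card X := by
    rw [Nat.card_congr (MulAction.selfEquivOrbitsQuotientProd hstab), Nat.card_prod, hSq]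
    exact dvd_mul_left _ _
  have hXc : Nat.card X + 1 = s ∨ Nat.card X + 2 = s := by
    have e : Nat.card X = ((Om0 A \ {Zs}) \ {Ws}).ncard := by
      rw [← Nat.card_coe_set_eq]
      exact Nat.card_congr (Equiv.subtypeEquivRight fun Y => by simp [and_assoc])
    have e1 : (Om0 A \ {Zs}).ncard = s - 1 := Set.ncard_sdiff_singleton_of_mem K.zs_mem_om0
    by_cases hW : (Ws : Set (V F)) ∈ Om0 A \ {Zs}
    · right
      rw [Set.ncard_sdiff_singleton_of_mem hW, e1] at e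
      have h1 : 0 < (Om0 A \ {Zs}).ncard := (Set.ncard_pos (Set.toFinite _)).2 ⟨_, hW⟩
      omega
    · left
      rw [Set.sdiff_singleton_eq_self hW, e1] at e
      omega
  have hcop : Nat.Coprime s h := by
    have g1 := Nat.gcd_dvd_left s h
    have g2 := Nat.gcd_dvd_right s h
    have g3 : Nat.gcd s h ∣ Nat.card X := g2.trans hX
    have g4 : Nat.gcd s h ∣ 2 := by
      rcases hXc with e | e
      · exact (((Nat.dvd_add_right g3).1 (e ▸ g1 : Nat.gcd s h ∣ Nat.card X + 1)).trans (one_dvd 2))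
      · exact (Nat.dvd_add_right g3).1 (e ▸ g1 : Nat.gcd s h ∣ Nat.card X + 2)
    rcases (Nat.dvd_prime Nat.prime_two).1 g4 with e | e
    · exact e
    · rw [e] at g2
      omega
  have : s ∣ 2 := hcop.dvd_of_dvd_mul_right (hqh.1 ▸ hdiv)
  have := Nat.le_of_dvd (by norm_num) this
  omega

end H40.PSpLocal
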