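import Cfsg.Agent.H40.PSpLocal.Pair

/-!
A group satisfying the local hypotheses is the image of `GL(2, F)` on the symmetric square, so it is
`PGL(2, F)` times a cyclic group of order `(q - 1) / 2`.
-/

set_option autoImplicit false
set_option linter.style.haveILetI false
set_option linter.unusedSectionVars false

open Matrix

namespace H40.PSpLocal

variable {F : Type*} [Field F] [Fintype F] {p : ℕ} {A : Subgroup (Equiv.Perm (V F))}

/-- there is just one line besides the fixed one -/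
theorem Ctx.two (K : Ctx p A) {X Y : Set (V F)} (hX : X ∈ Om0 A) (hX' : X ≠ Zs) (hY : Y ∈ Om0 A)
    (hY' : Y ≠ Zs) : X = Y := by
  have h := Set.ncard_sdiff_singleton_of_mem (s := Om0 A) K.zs_mem_om0
  rw [K.card_om0] at h
  obtain ⟨Z, hZ⟩ := Set.ncard_eq_one.1 h
  have h1 : X ∈ Om0 A \ {Zs} := ⟨hX, hX'⟩
  have h2 : Y ∈ Om0 A \ {Zs} := ⟨hY, hY'⟩
  rw [hZ, Set.mem_singleton_iff] at h1 h2
  rw [h1, h2]

theorem Ctx.smul_om0 (K : Ctx p A) {f : Equiv.Perm (V F)} (hf : f ∈ Cset A) {X : Set (V F)}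
    (hX : X ∈ Om0 A) : f '' X ∈ Om0 A :=
  ⟨K.smul_om hf.1 hX.1, by rintro _ ⟨v, hv, rfl⟩; exact commute_V0 K hf.2 (hX.2 hv)⟩

theorem T_tau (d : Fˣ) : Commute (T d : Equiv.Perm (V F)) tau := by
  show T d * T (-1) = T (-1) * T d
  rw [T_mul, T_mul, mul_comm]

theorem T_injective : Function.Injective (T : Fˣ → Equiv.Perm (V F)) := fun d e h => by
  have := congrArg (fun f : Equiv.Perm (V F) => (f (0, 1, 0)).2.1) h
  exact Units.ext (by simpa using this)

theorem T_mem_cset (K : Ctx p A) (d : Fˣ) : T d ∈ Cset A := ⟨K.mem_T d, T_tau d⟩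

theorem D_mul (e e' : Fˣ) : D e * D e' = (D (e * e') : Equiv.Perm (V F)) :=
  Equiv.ext fun ⟨a, b, c⟩ => by
    simp only [Equiv.Perm.mul_apply, D_apply, Units.val_mul, Prod.mk.injEq]
    exact ⟨by ring, by ring, trivial⟩

theorem D_one : D (1 : Fˣ) = (1 : Equiv.Perm (V F)) := Equiv.ext fun ⟨a, b, c⟩ => by simp

theorem D_inv (e : Fˣ) : (D e)⁻¹ = (D e⁻¹ : Equiv.Perm (V F)) :=
  inv_eq_of_mul_eq_one_right (by rw [D_mul, mul_inv_cancel, D_one])

theorem D_tau (e : Fˣ) : Commute (D e : Equiv.Perm (V F)) tau := Equiv.ext fun ⟨a, b, c⟩ => by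
  simp

/-- **Normalisation**: the other line is the last coordinate line after a shear. -/
theorem Ctx.normalize (K : Ctx p A) :
    ∃ Φ : Equiv.Perm (V F), Ctx p (A.map (MulAut.conj Φ).toMonoidHom) ∧
      (Ws : Set (V F)) ∈ Om0 (A.map (MulAut.conj Φ).toMonoidHom) := by
  classical
  have hcard := K.card_om0
  obtain ⟨X, ⟨hX, hXne⟩⟩ : ∃ X, X ∈ Om0 A ∧ X ≠ Zs := by
    obtain ⟨X, hX, h⟩ := Set.exists_ne_of_one_lt_ncard (show 1 < (Om0 A).ncard by omega) Zs
    exact ⟨X, hX, h⟩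
  obtain ⟨g, hg, hXg⟩ := hX.1
  have hadd : ∀ v ∈ X, ∀ w ∈ X, v + w ∈ X := by
    rw [hXg]
    rintro _ ⟨x, hx, rfl⟩ _ ⟨y, hy, rfl⟩
    exact ⟨x + y, ⟨by simp [hx.1, hy.1], by simp [hx.2, hy.2]⟩, K.add g hg x y⟩
  have hinj : Function.Injective (fun v : ↥X => v.1.2.2) := by
    rintro ⟨v, hv⟩ ⟨w, hw⟩ h
    simp only at h
    apply Subtype.ext
    by_contra hne
    refine hXne (K.om_eq hX.1 K.zs_mem_om (v := v - w) ?_ ⟨?_, ?_⟩ (sub_ne_zero.2 hne))
    · rw [hXg] at hv hw ⊢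
      obtain ⟨x, hx, rfl⟩ := hv
      obtain ⟨y, hy, rfl⟩ := hw
      exact ⟨x - y, ⟨by simp [hx.1, hy.1], by simp [hx.2, hy.2]⟩, K.map_sub hg x y⟩
    · show v.2.1 - w.2.1 = 0
      rw [show v.2.1 = 0 from hX.2 hv, show w.2.1 = 0 from hX.2 hw, sub_zero]
    · show v.2.2 - w.2.2 = 0
      rw [h, sub_self]
  have hbij : Function.Bijective (fun v : ↥X => v.1.2.2) := by
    refine (Nat.bijective_iff_injective_and_card _).2 ⟨hinj, ?_⟩
    rw [Nat.card_coe_set_eq, hXg, Set.ncard_image_of_injective _ g.injective, ← Nat.card_coe_set_eq]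
    exact Nat.card_congr
      { toFun := fun v => v.1.1
        invFun := fun a => ⟨(a, 0, 0), rfl, rfl⟩
        left_inv := fun v => by
          obtain ⟨⟨a, b, c⟩, hb, hc⟩ := v
          simp only at hb hc
          subst hb hc
          rfl
        right_inv := fun a => rfl }
  choose el hel using hbij.2
  set κ : F → F := fun c => (el c).1.1 with hκdef
  have hκ : ∀ c, (κ c, 0, c) ∈ X := fun c => by
    have h1 : (el c).1.2.1 = 0 := hX.2 (el c).2
    have h2 : (el c).1.2.2 = c := hel c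
    have e : (el c).1 = (κ c, 0, c) := Prod.ext rfl (Prod.ext h1 h2)
    rw [← e]; exact (el c).2
  have hκu : ∀ a c : F, (a, 0, c) ∈ X → a = κ c := fun a c h =>
    congrArg (fun v : ↥X => v.1.1) (hinj (a₁ := ⟨_, h⟩) (a₂ := ⟨_, hκ c⟩) rfl)
  have hκadd : ∀ c c', κ (c + c') = κ c + κ c' := fun c c' =>
    (hκu _ _ (by simpa using hadd _ (hκ c) _ (hκ c'))).symm
  have hκT : ∀ (d : Fˣ) c, κ ((d : F) * d * c) = κ c := fun d c => by
    have hTX : T d '' X = X := K.two (K.smul_om0 (T_mem_cset K d) hX) (fun e => hXne (by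
      have := image_inv e
      rwa [T_inv, T_image_Zs, eq_comm] at this)) hX hXne
    have : ((κ c, 0, (d : F) * d * c) : V F) ∈ X := hTX.subset ⟨_, hκ c, by simp⟩
    exact (hκu _ _ this).symm
  let Φ : Equiv.Perm (V F) :=
    { toFun := fun v => (v.1 - κ v.2.2, v.2)
      invFun := fun v => (v.1 + κ v.2.2, v.2)
      left_inv := fun v => by simp
      right_inv := fun v => by simp }
  have hΦ : ∀ a b c, Φ (a, b, c) = (a - κ c, b, c) := fun _ _ _ => rfl
  have hΦadd : ∀ v w, Φ (v + w) = Φ v + Φ w := by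
    rintro ⟨a, b, c⟩ ⟨a', b', c'⟩
    simp only [Prod.mk_add_mk, hΦ, hκadd, Prod.mk.injEq]
    refine ⟨?_, trivial⟩
    ring
  have hκ0 : κ 0 = 0 := by
    have := hκadd 0 0
    rw [add_zero] at this
    exact left_eq_add.1 this
  have hΦZ : ∀ v ∈ (Zs : Set (V F)), Φ v = v := fun v hv => by
    obtain ⟨a, rfl⟩ := mem_Zs.1 hv
    rw [hΦ, hκ0, sub_zero]
  have hΦZ' : ∀ v ∈ (Zs : Set (V F)), Φ⁻¹ v = v := fun v hv => by
    rw [Equiv.Perm.inv_eq_iff_eq, hΦZ v hv]
  have hΦU : ∀ s, MulAut.conj Φ (U s) = U s := fun s => by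
    rw [MulAut.conj_apply, mul_inv_eq_iff_eq_mul]
    refine Equiv.ext fun ⟨a, b, c⟩ => ?_
    simp only [Equiv.Perm.mul_apply, U_apply, hΦ, Prod.mk.injEq, and_true]
    ring
  have hΦT : ∀ d, MulAut.conj Φ (T d) = T d := fun d => by
    rw [MulAut.conj_apply, mul_inv_eq_iff_eq_mul]
    refine Equiv.ext fun ⟨a, b, c⟩ => ?_
    simp only [Equiv.Perm.mul_apply, T_apply, hΦ, hκT]
  have hconjZ : ∀ (f : Equiv.Perm (V F)) (a : F), MulAut.conj Φ f (a, 0, 0) = Φ (f (a, 0, 0)) := fun f a => by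
    rw [MulAut.conj_apply, Equiv.Perm.mul_apply, Equiv.Perm.mul_apply, hΦZ' _ ⟨rfl, rfl⟩]
  have hΦadd' : ∀ v w, Φ⁻¹ (v + w) = Φ⁻¹ v + Φ⁻¹ w := fun v w => by
    rw [Equiv.Perm.inv_eq_iff_eq, hΦadd]
    simp
  refine ⟨Φ, ⟨K.prime, K.char, K.four, ?_, ?_, ?_, ?_, ?_, ?_, ?_⟩, ?_⟩
  · rintro _ ⟨f, hf, rfl⟩ v w
    simp only [MulEquiv.coe_toMonoidHom, MulAut.conj_apply, Equiv.Perm.mul_apply]
    rw [hΦadd', K.add f hf, hΦadd]
  · rintro _ ⟨f, hf, rfl⟩ a ha hfa
    rw [MulEquiv.coe_toMonoidHom, hconjZ] at hfa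
    obtain ⟨s, d, rfl⟩ := K.stab f hf a ha (Φ.injective (by rw [hfa, hΦZ _ ⟨rfl, rfl⟩]))
    exact ⟨s, d, by rw [MulEquiv.coe_toMonoidHom, map_mul, hΦU, hΦT]⟩
  · exact fun s => ⟨U s, K.mem_U s, hΦU s⟩
  · exact fun d => ⟨T d, K.mem_T d, hΦT d⟩
  · obtain ⟨f, hf, a, hfa⟩ := K.moved
    refine ⟨MulAut.conj Φ f, ⟨f, hf, rfl⟩, a, fun h => hfa ?_⟩
    rw [hconjZ] at h
    have h2 := hΦZ' _ h
    rw [← Equiv.Perm.mul_apply, inv_mul_cancel, Equiv.Perm.one_apply] at h2
    rw [h2]; exact h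
  · obtain ⟨a, b, ha, hb, hf⟩ := K.notFused
    refine ⟨a, b, ha, hb, ?_⟩
    rintro _ ⟨f, hfA, rfl⟩ h
    rw [MulEquiv.coe_toMonoidHom, hconjZ] at h
    exact hf f hfA (Φ.injective (by rw [h, hΦZ _ ⟨rfl, rfl⟩]))
  · intro Q hQ hQp
    have hle : Q.comap (MulAut.conj Φ).toMonoidHom ≤ A := fun f hf => by
      obtain ⟨f', hf', e⟩ := hQ hf
      rwa [← (MulAut.conj Φ).injective e]
    rw [← Subgroup.map_comap_eq_self_of_surjective
        (f := (MulAut.conj Φ).toMonoidHom) (MulAut.conj Φ).surjective Q,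
      ← Nat.card_congr ((Q.comap (MulAut.conj Φ).toMonoidHom).equivMapOfInjective _
        (MulAut.conj Φ).injective).toEquiv]
    exact K.sylow _ hle (hQp.comap_of_injective _ (MulAut.conj Φ).injective)
  · refine ⟨⟨MulAut.conj Φ g, ⟨g, hg, rfl⟩, ?_⟩, fun v hv => hv.2⟩
    have hW : (Ws : Set (V F)) = Φ '' X := by
      ext ⟨a, b, c⟩
      constructor
      · rintro ⟨ha, hb⟩
        simp only at ha hb
        subst ha hb
        exact ⟨_, hκ c, by rw [hΦ, sub_self]⟩
      · rintro ⟨⟨x, y, z⟩, hv, e⟩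
        have hy : y = 0 := hX.2 hv
        subst hy
        rw [hΦ, ← hκu x z hv, sub_self] at e
        rw [← e]; exact ⟨rfl, rfl⟩
    rw [hW, hXg, MulAut.conj_apply, Equiv.Perm.coe_mul, Equiv.Perm.coe_mul, Set.image_comp, Set.image_comp]
    congr 2
    ext v
    exact ⟨fun hv => ⟨v, hv, hΦZ' v hv⟩, fun ⟨w, hw, e⟩ => by rw [← e, hΦZ' w hw]; exact hw⟩

/-! ### With the last coordinate line among the conjugates -/

theorem Ctx.stab0 (K : Ctx p A) {f : Equiv.Perm (V F)} (hf : f ∈ Cset A) {a : F} (ha : a ≠ 0)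
    (h : f (a, 0, 0) = (a, 0, 0)) : ∃ d, f = T d := by
  obtain ⟨s, d, rfl⟩ := K.stab f hf.1 a ha h
  have hc := hf.2.mul_left (T_tau d⁻¹)
  rw [← T_inv, mul_assoc, mul_inv_cancel, mul_one] at hc
  exact ⟨d, by rw [K.comm_unique (g := (1 : Equiv.Perm (V F))) (s := s) (s' := 0) (by rwa [one_mul])
    (by rw [U_zero, one_mul]; exact Commute.one_left _), U_zero, one_mul]⟩

theorem Ctx.neg_eig (K : Ctx p A) {f : Equiv.Perm (V F)} (hf : f ∈ Cset A) (b : F) :
    f (0, b, 0) = (0, (f (0, b, 0)).2.1, 0) := by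
  have h2 := two_ne K.four
  have h := DFunLike.congr_fun hf.2.eq (0, b, 0)
  simp only [Equiv.Perm.mul_apply, tau_apply] at h
  rw [show ((0 : F), -b, (0 : F)) = (0 : V F) - (0, b, 0) by simp, K.map_sub hf.1,
    K.map_zero hf.1] at h
  generalize f (0, b, 0) = v at h ⊢
  obtain ⟨x, y, z⟩ := v
  simp only [tau_apply, zero_sub, Prod.neg_mk, Prod.mk.injEq, true_and] at h
  obtain ⟨h1, h3⟩ := h
  have hx : x = 0 := (mul_eq_zero.1 (show (2 : F) * x = 0 by linear_combination -h1)).resolve_left h2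
  have hz : z = 0 := (mul_eq_zero.1 (show (2 : F) * z = 0 by linear_combination -h3)).resolve_left h2
  rw [hx, hz]

theorem Ctx.split (K : Ctx p A) {f : Equiv.Perm (V F)} (hf : f ∈ A) (a b c : F) :
    f (a, b, c) = f (a, 0, 0) + f (0, b, 0) + f (0, 0, c) := by
  rw [← K.add f hf, ← K.add f hf]
  simp

variable (hW : (Ws : Set (V F)) ∈ Om0 A)

theorem Ws_ne_Zs : (Ws : Set (V F)) ≠ Zs := fun h => by
  have : ((0, 0, 1) : V F) ∈ (Zs : Set (V F)) := h ▸ ⟨rfl, rfl⟩
  exact one_ne_zero this.2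

include hW

theorem Ctx.image_Ws (K : Ctx p A) {f : Equiv.Perm (V F)} (hf : f ∈ Cset A) (h : f '' Zs = Zs) :
    f '' Ws = Ws :=
  K.two (K.smul_om0 hf hW) (fun e => Ws_ne_Zs (Set.image_injective.2 f.injective (e.trans h.symm))) hW
    Ws_ne_Zs

theorem Ctx.swap_Ws (K : Ctx p A) {f : Equiv.Perm (V F)} (hf : f ∈ Cset A) (h : f '' Zs = Ws) :
    f '' Ws = Zs := by
  by_contra e
  exact Ws_ne_Zs (Set.image_injective.2 f.injective ((K.two (K.smul_om0 hf hW) e hW Ws_ne_Zs).trans h.symm))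

/-- elements of the centraliser fixing the last line pointwise -/
theorem Ctx.fix_W (K : Ctx p A) {f : Equiv.Perm (V F)} (hf : f ∈ Cset A) (hZ : f '' Zs = Zs)
    (hfix : ∀ c, f (0, 0, c) = (0, 0, c)) : ∃ e, f = D e := by
  have h2 := two_ne K.four
  have hα : ∀ a, f (a, 0, 0) = ((f (a, 0, 0)).1, 0, 0) := fun a => by
    obtain ⟨x, hx⟩ := mem_Zs.1 (hZ.subset ⟨(a, 0, 0), ⟨rfl, rfl⟩, rfl⟩)
    rw [hx]
  set α : F → F := fun a => (f (a, 0, 0)).1 with hαdef
  set β : F → F := fun b => (f (0, b, 0)).2.1 with hβdef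
  have hform : ∀ a b c, f (a, b, c) = (α a, β b, c) := fun a b c => by
    rw [K.split hf.1, hα, K.neg_eig hf b, hfix]
    simp [α, β]
  have hαadd : ∀ a a', α (a - a') = α a - α a' := fun a a' => by
    show (f (a - a', 0, 0)).1 = (f (a, 0, 0)).1 - (f (a', 0, 0)).1
    rw [← Prod.fst_sub, ← K.map_sub hf.1]
    simp only [Prod.mk_sub_mk, sub_zero]
  have hβadd : ∀ b b', β (b + b') = β b + β b' := fun b b' => by
    have := congrArg (fun v : V F => v.2.1) (K.add f hf.1 (0, b, 0) (0, b', 0))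
    simpa [β] using this
  have hinvZ : f⁻¹ (1, 0, 0) ∈ (Zs : Set (V F)) := by
    rw [← image_inv hZ]; exact ⟨_, ⟨rfl, rfl⟩, rfl⟩
  -- the torus
  have hT : ∀ d : Fˣ, β d = (d : F) * β 1 ∨ β d = -((d : F) * β 1) := by
    intro d
    obtain ⟨π, hπ⟩ := K.stab0 (f := f * T d * f⁻¹)
      (Cset_mul (Cset_mul hf (T_mem_cset K d)) (Cset_inv hf)) one_ne_zero (by
        obtain ⟨a, ha⟩ := mem_Zs.1 hinvZ
        rw [Equiv.Perm.mul_apply, Equiv.Perm.mul_apply, ha, T_apply, mul_zero, mul_zero, ← ha]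
        simp)
    rw [mul_inv_eq_iff_eq_mul] at hπ
    have e1 := congrArg (fun v : V F => v.2.2) (DFunLike.congr_fun hπ (0, 0, 1))
    have e2 := congrArg (fun v : V F => v.2.1) (DFunLike.congr_fun hπ (0, 1, 0))
    simp only [Equiv.Perm.mul_apply, T_apply, hform, mul_one, mul_zero] at e1 e2
    rcases mul_self_eq_mul_self_iff.1 e1 with h | h
    · left; rw [e2, h]
    · right; rw [e2, h]; ring
  have he : β 1 ≠ 0 := fun h => by
    have h' : f (0, 1, 0) = f 0 := by
      rw [K.map_zero hf.1, K.neg_eig hf 1]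
      show ((0 : F), β 1, (0 : F)) = 0
      rw [h]; rfl
    simpa using congrArg (fun v : V F => v.2.1) (f.injective h')
  have hβ0 : β 0 = 0 := by
    have := hβadd 0 0
    rw [add_zero] at this
    exact left_eq_add.1 this
  have hβ : ∀ b, β b = b * β 1 := by
    intro b
    by_cases hb : b = 0
    · rw [hb, hβ0, zero_mul]
    rcases hT (Units.mk0 b hb) with h | h
    · exact h
    simp only [Units.val_mk0] at h
    exfalso
    have h1 := hβadd b 1
    rw [h] at h1
    by_cases hb1 : b + 1 = 0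
    · rw [hb1, hβ0, show b = -1 by linear_combination hb1] at h1
      exact mul_ne_zero h2 he (by linear_combination -h1)
    rcases hT (Units.mk0 (b + 1) hb1) with h' | h' <;> simp only [Units.val_mk0] at h' <;> rw [h'] at h1
    · exact mul_ne_zero (mul_ne_zero h2 hb) he (by linear_combination h1)
    · exact mul_ne_zero h2 he (by linear_combination -h1)
  -- the unipotents
  have hsq : ∀ t, α (t * t) = t * t * (β 1 * β 1) := by
    intro t
    obtain ⟨a, ha⟩ := mem_Zs.1 hinvZ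
    obtain ⟨s, π, hs⟩ := K.stab (f * U t * f⁻¹)
      (mul_mem (mul_mem hf.1 (K.mem_U t)) (inv_mem hf.1)) 1 one_ne_zero (by
        rw [Equiv.Perm.mul_apply, Equiv.Perm.mul_apply, K.U_fix t hinvZ]
        simp)
    rw [mul_inv_eq_iff_eq_mul] at hs
    have e := DFunLike.congr_fun hs (0, 0, 1)
    simp only [Equiv.Perm.mul_apply, hfix, T_apply, U_apply, hform, mul_one, mul_zero, zero_add,
      Prod.mk.injEq] at e
    obtain ⟨ea, eb, ec⟩ := e
    rw [← ec] at ea eb
    rw [mul_one] at ea eb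
    rw [hβ] at eb
    rw [ea, ← eb]; ring
  refine ⟨Units.mk0 (β 1) he, Equiv.ext fun ⟨a, b, c⟩ => ?_⟩
  obtain ⟨y, z, hyz⟩ := sq_add K.four (x := a)
  rw [hform, D_apply, hβ, Units.val_mk0, hyz, hαadd, hsq, hsq]
  simp only [Prod.mk.injEq, and_true]
  exact ⟨by ring, by ring⟩

theorem Ctx.swapper (K : Ctx p A) :
    ∃ w ∈ Cset A, w '' Zs = Ws ∧ w '' Ws = Zs ∧ ∀ d : Fˣ, ∃ e, w * T d = D e * w := by
  obtain ⟨w, hw, hwZ⟩ := (K.mem_om0_iff Ws).1 hW
  refine ⟨w, hw, hwZ, K.swap_Ws hW hw hwZ, fun d => ?_⟩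
  have hWZ := K.swap_Ws hW hw hwZ
  obtain ⟨e, he⟩ := K.fix_W hW (f := w * T d * w⁻¹)
    (Cset_mul (Cset_mul hw (T_mem_cset K d)) (Cset_inv hw)) (by
      rw [coe_smul_set, image_inv hWZ, coe_smul_set,
        K.image_Ws hW (T_mem_cset K d) (T_image_Zs d), hWZ]) (fun c => by
      obtain ⟨x, hx, e⟩ := hwZ.symm.subset (show ((0, 0, c) : V F) ∈ (Ws : Set (V F)) from ⟨rfl, rfl⟩)
      obtain ⟨a, rfl⟩ := mem_Zs.1 hx
      have hxe : w⁻¹ (0, 0, c) = (a, 0, 0) := by rw [Equiv.Perm.inv_eq_iff_eq, e]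
      rw [Equiv.Perm.mul_apply, Equiv.Perm.mul_apply, hxe, T_apply, mul_zero, mul_zero, e])
  exact ⟨e, mul_inv_eq_iff_eq_mul.1 he⟩

theorem Ctx.mem_D (K : Ctx p A) (e : Fˣ) : D e ∈ A := by
  obtain ⟨w, hw, -, -, hwT⟩ := K.swapper hW
  choose g hg using hwT
  have hinj : Function.Injective g := fun d d' h => T_injective (mul_left_cancel (a := w) (by
    rw [hg, hg, h]))
  obtain ⟨d, rfl⟩ := (Finite.injective_iff_surjective.1 hinj) e
  rw [show D (g d) = w * T d * w⁻¹ by rw [hg, mul_inv_cancel_right]]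
  exact mul_mem (mul_mem hw.1 (K.mem_T d)) (inv_mem hw.1)

theorem Ctx.mem_D_cset (K : Ctx p A) (e : Fˣ) : D e ∈ Cset A := ⟨K.mem_D hW e, D_tau e⟩

/-- the normaliser inside the centraliser -/
theorem Ctx.n0_eq (K : Ctx p A) {f : Equiv.Perm (V F)} (hf : f ∈ Cset A)
    (hZ : f (1, 0, 0) ∈ (Zs : Set (V F))) : ∃ e d, f = D e * T d := by
  obtain ⟨a, ha⟩ := mem_Zs.1 hZ
  have ha0 : a ≠ 0 := fun h => by
    have : f (1, 0, 0) = f 0 := by rw [K.map_zero hf.1, ha, h]; rfl
    simpa using congrArg Prod.fst (f.injective this)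
  have hsquare : IsSquare a := by
    by_contra hns
    obtain ⟨a₀, b₀, ha₀, hb₀, hfus⟩ := K.notFused
    have hall : ∀ x : F, x ≠ 0 → ∃ g ∈ A, g (1, 0, 0) = (x, 0, 0) := by
      intro x hx
      by_cases hxs : IsSquare x
      · obtain ⟨r, rfl⟩ := hxs
        exact ⟨_, K.mem_D hW (Units.mk0 r fun h => hx (by rw [h, mul_zero])), by simp⟩
      · obtain ⟨r, hr⟩ := (sq_or_neg_sq K.four ha0).resolve_left hns
        obtain ⟨t, ht⟩ := (sq_or_neg_sq K.four hx).resolve_left hxs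
        have hr0 : r ≠ 0 := fun h => ha0 (neg_eq_zero.1 (by rw [hr, h, mul_zero]))
        have ht0 : t ≠ 0 := fun h => hx (neg_eq_zero.1 (by rw [ht, h, mul_zero]))
        refine ⟨_, mul_mem (K.mem_D hW (Units.mk0 (t / r) (div_ne_zero ht0 hr0))) hf.1, ?_⟩
        rw [Equiv.Perm.mul_apply, ha]
        simp only [D_apply, Units.val_mk0, mul_zero, Prod.mk.injEq, and_self, and_true]
        field_simp
        linear_combination -(t * t) * hr + r * r * ht
    obtain ⟨g₁, hg₁, e₁⟩ := hall a₀ ha₀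
    obtain ⟨g₂, hg₂, e₂⟩ := hall b₀ hb₀
    refine hfus (g₂ * g₁⁻¹) (mul_mem hg₂ (inv_mem hg₁)) ?_
    rw [Equiv.Perm.mul_apply, show g₁⁻¹ (a₀, 0, 0) = (1, 0, 0) by rw [Equiv.Perm.inv_eq_iff_eq, e₁], e₂]
  obtain ⟨r, rfl⟩ := hsquare
  have hr : r ≠ 0 := fun h => ha0 (by rw [h, mul_zero])
  let e : Fˣ := Units.mk0 r hr
  obtain ⟨d, hd⟩ := K.stab0 (f := (D e)⁻¹ * f) (Cset_mul (Cset_inv (K.mem_D_cset hW e)) hf)
    one_ne_zero (by rw [Equiv.Perm.mul_apply, ha, Equiv.Perm.inv_eq_iff_eq]; simp [e])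
  exact ⟨e, d, by rw [← hd, mul_inv_cancel_left]⟩

theorem Ctx.neg_not_mem (K : Ctx p A) : Equiv.neg (V F) ∉ A := fun h => by
  obtain ⟨e, d, hed⟩ := K.n0_eq hW (f := Equiv.neg (V F))
    ⟨h, Equiv.ext fun ⟨a, b, c⟩ => by simp⟩ ⟨by simp, by simp⟩
  have h1 := congrArg Prod.fst (DFunLike.congr_fun hed (1, 0, 0))
  simp only [Equiv.neg_apply, Prod.neg_mk, Equiv.Perm.mul_apply, T_apply, D_apply, mul_one] at h1
  exact neg_one_not_sq K.four ⟨(e : F), h1⟩

omit hW in
/-- the field automorphism is trivial -/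
theorem invol_eq_id (h4 : Fintype.card F % 4 = 3) (σ : F → F) (hadd : ∀ x y, σ (x + y) = σ x + σ y)
    (hmul : ∀ x y, σ (x * y) = σ x * σ y) (hinv : ∀ x, σ (σ x) = x) (x : F) : σ x = x := by
  classical
  by_contra hne
  have h2 := two_ne h4
  have hσ : Function.Injective σ := fun a b h => by rw [← hinv a, h, hinv b]
  have h0 : σ 0 = 0 := by
    have := hadd 0 0
    rw [add_zero] at this
    exact left_eq_add.1 this
  have hneg : ∀ a, σ (-a) = -σ a := fun a =>
    eq_neg_of_add_eq_zero_left (by rw [← hadd, neg_add_cancel, h0])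
  have hsub : ∀ a b, σ (a - b) = σ a - σ b := fun a b => by rw [sub_eq_add_neg, hadd, hneg, ← sub_eq_add_neg]
  set δ := x - σ x with hδdef
  have hδ : δ ≠ 0 := sub_ne_zero.2 (Ne.symm hne)
  have hσδ : σ δ = -δ := by rw [hδdef, hsub, hinv]; ring
  let Kf : Type _ := {a : F // σ a = a}
  have hbij : Function.Bijective (fun u : Kf × Kf => u.1.1 + δ * u.2.1) := by
    constructor
    · rintro ⟨⟨u, hu⟩, ⟨v, hv⟩⟩ ⟨⟨u', hu'⟩, ⟨v', hv'⟩⟩ h
      simp only at h
      have h' := congrArg σ h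
      rw [hadd, hadd, hmul, hmul, hu, hu', hv, hv', hσδ] at h'
      have e1 : u = u' := mul_left_cancel₀ h2 (by linear_combination h + h')
      have e2 : v = v' := mul_left_cancel₀ hδ (by linear_combination h - e1)
      subst e1 e2; rfl
    · intro y
      have hσ2 : σ 2 = 2 := by
        have h1 : σ 1 = 1 := by
          have := hmul 1 1
          rw [mul_one] at this
          exact (mul_right_eq_self₀.1 this.symm).resolve_right fun e => one_ne_zero (hσ (e.trans h0.symm))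
        rw [← one_add_one_eq_two, hadd, h1]
      have hdiv : ∀ a b, b ≠ 0 → σ (a / b) = σ a / σ b := fun a b hb => by
        rw [eq_div_iff fun e => hb (hσ (e.trans h0.symm)), ← hmul, div_mul_cancel₀ a hb]
      refine ⟨(⟨(y + σ y) / 2, ?_⟩, ⟨(y - σ y) / (2 * δ), ?_⟩), ?_⟩
      · rw [hdiv _ _ h2, hadd, hinv, hσ2, add_comm]
      · rw [hdiv _ _ (mul_ne_zero h2 hδ), hsub, hinv, hmul, hσ2, hσδ]
        field_simp
        ring
      · show (y + σ y) / 2 + δ * ((y - σ y) / (2 * δ)) = y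
        field_simp
        ring
  have hc := Nat.card_congr (Equiv.ofBijective _ hbij)
  rw [Nat.card_prod, Nat.card_eq_fintype_card (α := F)] at hc
  have hm : Nat.card Kf % 4 < 4 := Nat.mod_lt _ (by norm_num)
  rw [← hc, Nat.mul_mod] at h4
  interval_cases Nat.card Kf % 4 <;> simp_all

/-- **The swapper is antidiagonal.** -/
theorem Ctx.swap_anti (K : Ctx p A) : ∃ x y : Fˣ, rho (anti x y) ∈ A ∧
    rho (anti x y) '' (Zs : Set (V F)) = Ws := by
  have h2 := two_ne K.four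
  obtain ⟨w, hw, hwZ, hWZ, hwT⟩ := K.swapper hW
  set φ : F → F := fun c => (w (0, 0, c)).1 with hφdef
  set l : F → F := fun b => (w (0, b, 0)).2.1 with hldef
  set ψ : F → F := fun a => (w (a, 0, 0)).2.2 with hψdef
  have hform : ∀ a b c, w (a, b, c) = (φ c, l b, ψ a) := fun a b c => by
    have e1 : w (a, 0, 0) = (0, 0, ψ a) := by
      have := hwZ.subset ⟨(a, 0, 0), ⟨rfl, rfl⟩, rfl⟩
      exact Prod.ext this.1 (Prod.ext this.2 rfl)
    have e2 : w (0, 0, c) = (φ c, 0, 0) := by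
      have := hWZ.subset ⟨(0, 0, c), ⟨rfl, rfl⟩, rfl⟩
      exact Prod.ext rfl (Prod.ext this.1 this.2)
    rw [K.split hw.1, e1, e2, K.neg_eig hw b]
    simp [l]
  have hφa : ∀ c c', φ (c - c') = φ c - φ c' := fun c c' => by
    have := congrArg Prod.fst (K.map_sub hw.1 (0, 0, c) (0, 0, c'))
    simpa [φ] using this
  have hψa : ∀ c c', ψ (c - c') = ψ c - ψ c' := fun c c' => by
    have := congrArg (fun v : V F => v.2.2) (K.map_sub hw.1 (c, 0, 0) (c', 0, 0))
    simp only [Prod.mk_sub_mk, sub_zero, Prod.snd_sub] at this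
    exact this
  have hla : ∀ c c', l (c + c') = l c + l c' := fun c c' => by
    have := congrArg (fun v : V F => v.2.1) (K.add w hw.1 (0, c, 0) (0, c', 0))
    simpa [l] using this
  have hw0 : w (0, 0, 0) = (0, 0, 0) := K.map_zero hw.1
  have h00 := hw0
  rw [hform, Prod.mk.injEq, Prod.mk.injEq] at h00
  obtain ⟨hφ0, hl0, hψ0⟩ := h00
  have hl1 : l 1 ≠ 0 := fun h => by
    have e : w (0, 1, 0) = w (0, 0, 0) := by rw [hform, hform, h, hl0]
    simpa using congrArg (fun v : V F => v.2.1) (w.injective e)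
  set σ : F → F := fun b => l b / l 1 with hσdef
  have hTd : ∀ d : Fˣ, (∀ b, l ((d : F) * b) = σ d * l b) ∧ ∀ c, φ ((d : F) * d * c) = σ d * σ d * φ c := by
    intro d
    obtain ⟨e, he⟩ := hwT d
    have hb : ∀ b, l ((d : F) * b) = e * l b := fun b => by
      have := congrArg (fun v : V F => v.2.1) (DFunLike.congr_fun he (0, b, 0))
      simpa [hform] using this
    have hσe : σ d = e := by
      show l d / l 1 = e
      rw [div_eq_iff hl1, ← hb 1, mul_one]
    refine ⟨fun b => by rw [hσe, hb], fun c => ?_⟩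
    have := congrArg Prod.fst (DFunLike.congr_fun he (0, 0, c))
    simpa [hform, hσe] using this
  have hDe : ∀ e : Fˣ, ∀ a, ψ ((e : F) * e * a) = σ e * σ e * ψ a := by
    intro e a
    obtain ⟨d, hd⟩ := K.stab0 (f := w * D e * w⁻¹)
      (Cset_mul (Cset_mul hw (K.mem_D_cset hW e)) (Cset_inv hw)) one_ne_zero (by
        obtain ⟨x, hx, ex⟩ := hWZ.symm.subset (show ((1, 0, 0) : V F) ∈ (Zs : Set (V F)) from ⟨rfl, rfl⟩)
        obtain ⟨x1, x2, x3⟩ := x
        obtain ⟨h1, h3⟩ := hx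
        simp only at h1 h3
        subst h1 h3
        have hxe : w⁻¹ (1, 0, 0) = (0, 0, x3) := by rw [Equiv.Perm.inv_eq_iff_eq, ex]
        rw [Equiv.Perm.mul_apply, Equiv.Perm.mul_apply, hxe, D_apply, mul_zero, mul_zero, ex])
    rw [mul_inv_eq_iff_eq_mul] at hd
    have hb : l ((e : F) * 1) = d * l 1 := by
      have := congrArg (fun v : V F => v.2.1) (DFunLike.congr_fun hd (0, 1, 0))
      simpa [hform] using this
    have hσe : σ e = d := by
      show l e / l 1 = d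
      rw [div_eq_iff hl1, ← hb, mul_one]
    have := congrArg (fun v : V F => v.2.2) (DFunLike.congr_fun hd (a, 0, 0))
    simpa [hform, hσe] using this
  have hσadd : ∀ x y, σ (x + y) = σ x + σ y := fun x y => by
    show l (x + y) / l 1 = _; rw [hla, add_div]
  have hσ0 : σ 0 = 0 := by show l 0 / l 1 = 0; rw [hl0, zero_div]
  have hσmul : ∀ x y, σ (x * y) = σ x * σ y := fun x y => by
    by_cases hx : x = 0
    · rw [hx, zero_mul, hσ0, zero_mul]
    show l (x * y) / l 1 = _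
    rw [show x * y = ((Units.mk0 x hx : Fˣ) : F) * y from rfl, (hTd _).1, mul_div_assoc]
    rfl
  have hlσ : ∀ b, l b = σ b * l 1 := fun b => (div_mul_cancel₀ _ hl1).symm
  have hσinv : ∀ x, σ (σ x) = x := by
    obtain ⟨e, d, hed⟩ := K.n0_eq hW (f := w * w) (Cset_mul hw hw) (by
      rw [Equiv.Perm.mul_apply]
      exact hWZ.subset ⟨_, hwZ.subset ⟨_, ⟨rfl, rfl⟩, rfl⟩, rfl⟩)
    intro x
    have key : ∀ b, σ (σ b) * (σ (l 1) * l 1) = (e : F) * d * b := fun b => by
      have h := congrArg (fun v : V F => v.2.1) (DFunLike.congr_fun hed (0, b, 0))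
      simp only [Equiv.Perm.mul_apply, hform, T_apply, D_apply] at h
      rw [hlσ (l b), hlσ b, hσmul] at h
      linear_combination h
    have k1 := key 1
    have e1 : σ (1 : F) = 1 := by show l 1 / l 1 = 1; exact div_self hl1
    rw [e1, e1, one_mul, mul_one] at k1
    have k2 := key x
    rw [k1] at k2
    exact mul_right_cancel₀ (mul_ne_zero e.ne_zero d.ne_zero) (by linear_combination k2)
  have hid : ∀ x, σ x = x := invol_eq_id K.four σ hσadd hσmul hσinv
  -- all three maps are linear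
  set L := l 1 with hL
  have hl : ∀ b, l b = b * L := fun b => by rw [hlσ, hid]
  have hlin : ∀ f : F → F, (∀ c c', f (c - c') = f c - f c') → f 0 = 0 →
      (∀ d : Fˣ, ∀ c, f ((d : F) * d * c) = σ d * σ d * f c) → ∀ x, f x = x * f 1 := by
    intro f hf hf0 hfd x
    have hsq : ∀ y, f (y * y) = y * y * f 1 := fun y => by
      by_cases hy : y = 0
      · simp [hy, hf0]
      · have := hfd (Units.mk0 y hy) 1
        simpa [hid] using this
    obtain ⟨y, z, rfl⟩ := sq_add K.four (x := x)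
    rw [hf, hsq, hsq]; ring
  have hφ := hlin φ hφa hφ0 fun d c => (hTd d).2 c
  have hψ := hlin ψ hψa hψ0 hDe
  set μ := φ 1 with hμ
  set ν := ψ 1 with hν
  have hform' : ∀ a b c, w (a, b, c) = (c * μ, b * L, a * ν) := fun a b c => by
    rw [hform, hφ, hψ, hl]
  have hν0 : ν ≠ 0 := fun h => by
    have e : w (1, 0, 0) = w (0, 0, 0) := by simp [hform', h]
    simpa using congrArg Prod.fst (w.injective e)
  have hμ0 : μ ≠ 0 := fun h => by
    have e : w (0, 0, 1) = w (0, 0, 0) := by simp [hform', h]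
    simpa using congrArg (fun v : V F => v.2.2) (w.injective e)
  -- the relation between the three constants
  have hrel : L * L = μ * ν := by
    have hf : w * U (1 : F) * w ∈ A := mul_mem (mul_mem hw.1 (K.mem_U 1)) hw.1
    have hv : (w * U (1 : F) * w) (1, 0, 0) = (ν * μ, ν * L, ν * ν) := by
      simp [hform']
    have hne : ⇑(w * U (1 : F) * w) '' Zs ≠ Zs := fun h => by
      have h' := h.subset ⟨(1, 0, 0), ⟨rfl, rfl⟩, hv⟩
      exact mul_ne_zero hν0 hν0 h'.2
    obtain ⟨s, hs⟩ := K.classify ⟨_, hf, rfl⟩ hne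
    have hX : U s '' ((w * U (1 : F) * w) '' Zs) = Ws := by
      refine K.two ⟨K.smul_om (K.mem_U s) ⟨_, hf, rfl⟩, hs⟩ (fun h => hne ?_) hW Ws_ne_Zs
      have := image_inv h
      rw [U_inv, U_image_Zs] at this
      exact this.symm
    have hm := hX.subset ⟨_, ⟨(1, 0, 0), ⟨rfl, rfl⟩, hv⟩, rfl⟩
    rw [U_apply] at hm
    obtain ⟨ha, hb⟩ := hm
    simp only at ha hb
    have hs' : L + s * ν = 0 :=
      (mul_eq_zero.1 (show ν * (L + s * ν) = 0 by linear_combination hb)).resolve_left hν0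
    linear_combination -ha + (L + s * ν) * hs'
  rcases sq_or_neg_sq K.four hμ0 with ⟨x, hx⟩ | ⟨x, hx⟩
  · have hx0 : x ≠ 0 := fun h => hμ0 (by rw [hx, h, mul_zero])
    have hL0 : L ≠ 0 := hl1
    have e : rho (anti (Units.mk0 x hx0) (Units.mk0 (L / x) (div_ne_zero hL0 hx0))) = w :=
      Equiv.ext fun ⟨a, b, c⟩ => by
        rw [rho_anti, hform']
        simp only [Units.val_mk0, Prod.mk.injEq]
        refine ⟨by rw [hx]; ring, by field_simp, ?_⟩
        field_simp
        linear_combination a * hrel + a * ν * hx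
    exact ⟨_, _, by rw [e]; exact hw.1, by rw [e]; exact hwZ⟩
  · exfalso
    have hx0 : x ≠ 0 := fun h => hμ0 (neg_eq_zero.1 (by rw [hx, h, mul_zero]))
    have hL0 : L ≠ 0 := hl1
    set n := (D (Units.mk0 x hx0) * T (Units.mk0 (L / x) (div_ne_zero hL0 hx0)))⁻¹ * w with hn
    have hnA : n ∈ A := mul_mem (inv_mem (mul_mem (K.mem_D hW _) (K.mem_T _))) hw.1
    have hn' : ∀ a b c, n (a, b, c) = (-c, b, -a) := fun a b c => by
      rw [hn, Equiv.Perm.mul_apply, Equiv.Perm.inv_eq_iff_eq, hform', Equiv.Perm.mul_apply, T_apply,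
        D_apply]
      simp only [Units.val_mk0, Prod.mk.injEq]
      refine ⟨by linear_combination -c * hx, by field_simp, ?_⟩
      field_simp
      linear_combination a * hrel - a * ν * hx
    have hcube : n * U 1 * (n * U 1) * (n * U 1) = Equiv.neg (V F) := Equiv.ext fun ⟨a, b, c⟩ => by
      simp only [Equiv.Perm.mul_apply, U_apply, hn', Equiv.neg_apply, Prod.neg_mk, Prod.mk.injEq]
      refine ⟨?_, ?_, ?_⟩ <;> ring
    exact K.neg_not_mem hW (hcube ▸ mul_mem (mul_mem (mul_mem hnA (K.mem_U 1))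
      (mul_mem hnA (K.mem_U 1))) (mul_mem hnA (K.mem_U 1)))

theorem Ctx.eq_range (K : Ctx p A) : A = (rho : GL (Fin 2) F →* Equiv.Perm (V F)).range := by
  obtain ⟨x, y, hxy, hxyZ⟩ := K.swap_anti hW
  have hU : ∀ s, U s ∈ (rho : GL (Fin 2) F →* Equiv.Perm (V F)).range := fun s => ⟨_, rfl⟩
  have hTr : ∀ s, T s ∈ (rho : GL (Fin 2) F →* Equiv.Perm (V F)).range := fun s => ⟨_, rfl⟩
  have hDr : ∀ s, D s ∈ (rho : GL (Fin 2) F →* Equiv.Perm (V F)).range := fun s => ⟨_, rfl⟩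
  apply le_antisymm
  · intro f hf
    have key : ∀ g ∈ A, g '' Zs = Zs → g ∈ (rho : GL (Fin 2) F →* Equiv.Perm (V F)).range := by
      intro g hg hgZ
      obtain ⟨c, s, hcs, hc⟩ := K.exists_comm hg (by rw [hgZ]; exact Zs_subset_V0)
      obtain ⟨e, d, hed⟩ := K.n0_eq hW (f := c) ⟨hcs ▸ mul_mem hg (K.mem_U s), hc⟩ (by
        rw [hcs, Equiv.Perm.mul_apply, K.U_fix s ⟨rfl, rfl⟩]
        exact hgZ.subset ⟨_, ⟨rfl, rfl⟩, rfl⟩)
      rw [hed] at hcs
      rw [← mul_inv_eq_iff_eq_mul] at hcs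
      rw [← hcs]
      exact mul_mem (mul_mem (hDr e) (hTr d)) (inv_mem (hU s))
    by_cases hfZ : f '' Zs = Zs
    · exact key f hf hfZ
    obtain ⟨s, hs⟩ := K.classify ⟨f, hf, rfl⟩ hfZ
    have hX : U s '' (f '' Zs) = Ws := by
      refine K.two ⟨K.smul_om (K.mem_U s) ⟨_, hf, rfl⟩, hs⟩ (fun h => hfZ ?_) hW Ws_ne_Zs
      have := image_inv h
      rw [U_inv, U_image_Zs] at this
      exact this.symm
    have := key ((rho (anti x y))⁻¹ * (U s * f)) (mul_mem (inv_mem hxy) (mul_mem (K.mem_U s) hf)) (by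
      rw [coe_smul_set, coe_smul_set, hX, image_inv hxyZ])
    rw [show f = (U s)⁻¹ * (rho (anti x y) * ((rho (anti x y))⁻¹ * (U s * f))) by group]
    exact mul_mem (inv_mem (hU s)) (mul_mem ⟨_, rfl⟩ this)
  · rintro _ ⟨g, rfl⟩
    have hup : ∀ (a : Fˣ) (b : F) (c : Fˣ), rho (up a b c) ∈ A := by
      intro a b c
      have e : rho (up a b c) = D a * T c * U (b / a) := Equiv.ext fun ⟨v1, v2, v3⟩ => by
        have := a.ne_zero
        simp only [rho_up, Equiv.Perm.mul_apply, U_apply, T_apply, D_apply, Prod.mk.injEq]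
        refine ⟨?_, ?_, trivial⟩ <;> field_simp
      rw [e]
      exact mul_mem (mul_mem (K.mem_D hW a) (K.mem_T c)) (K.mem_U _)
    have hdet : (g : Matrix (Fin 2) (Fin 2) F) 0 0 * (g : Matrix (Fin 2) (Fin 2) F) 1 1 -
        (g : Matrix (Fin 2) (Fin 2) F) 0 1 * (g : Matrix (Fin 2) (Fin 2) F) 1 0 ≠ 0 := by
      rw [← Matrix.det_fin_two]
      exact Matrix.GeneralLinearGroup.det_ne_zero g
    by_cases h10 : (g : Matrix (Fin 2) (Fin 2) F) 1 0 = 0
    · rw [h10, mul_zero, sub_zero] at hdet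
      have e : g = up (Units.mk0 _ (left_ne_zero_of_mul hdet)) ((g : Matrix (Fin 2) (Fin 2) F) 0 1)
          (Units.mk0 _ (right_ne_zero_of_mul hdet)) := by
        ext i j
        fin_cases i <;> fin_cases j <;> simp [up, h10]
      rw [e]
      exact hup _ _ _
    · set v : Fˣ := Units.mk0 _ h10 with hv
      set u : Fˣ := Units.mk0 _ (div_ne_zero (neg_ne_zero.2 hdet) h10) with hu
      have e : g = up 1 ((g : Matrix (Fin 2) (Fin 2) F) 0 0 / (g : Matrix (Fin 2) (Fin 2) F) 1 0) 1 *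
          up (u / x) 0 (v / y) * anti x y *
            up 1 ((g : Matrix (Fin 2) (Fin 2) F) 1 1 / (g : Matrix (Fin 2) (Fin 2) F) 1 0) 1 := by
        have := x.ne_zero
        have := y.ne_zero
        ext i j
        fin_cases i <;> fin_cases j <;>
          simp [up, anti, u, v, Matrix.mul_apply, Fin.sum_univ_two] <;> field_simp <;> ring
      rw [e, map_mul, map_mul, map_mul]
      exact mul_mem (mul_mem (mul_mem (hup _ _ _) (hup _ _ _)) hxy) (hup _ _ _)

omit hW

/-- **The structure of the group.** -/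
theorem Ctx.structure_iso (K : Ctx p A) :
    Nonempty (A ≃* Matrix.ProjGenLinGroup (Fin 2) F × Multiplicative (ZMod ((Fintype.card F - 1) / 2))) := by
  classical
  obtain ⟨Φ, K', hW'⟩ := K.normalize
  have hA := K'.eq_range hW'
  let Sq : Subgroup Fˣ := (powMonoidHom 2).range
  have hSq : Nat.card Sq = (Fintype.card F - 1) / 2 := by
    show Nat.card (powMonoidHom 2 : Fˣ →* Fˣ).range = _
    rw [IsCyclic.card_powMonoidHom_range, Nat.card_eq_fintype_card, Fintype.card_units]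
    have := K.four
    rw [Nat.gcd_eq_right (show 2 ∣ Fintype.card F - 1 by omega)]
  let Ψ : GL (Fin 2) F →* Matrix.ProjGenLinGroup (Fin 2) F × Sq :=
    Matrix.ProjGenLinGroup.mk.prod ((powMonoidHom 2 : Fˣ →* Fˣ).rangeRestrict.comp Matrix.GeneralLinearGroup.det)
  have hdet : ∀ u : Fˣ, Matrix.GeneralLinearGroup.det (Matrix.GeneralLinearGroup.scalar (Fin 2) u) = u * u := fun u => by
    apply Units.ext
    simp [Matrix.GeneralLinearGroup.coe_scalar, Matrix.det_fin_two, Matrix.scalar_apply, sq]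
  have hsurj : Function.Surjective Ψ := by
    rintro ⟨gb, ⟨t, r, hr⟩⟩
    induction gb using Matrix.ProjGenLinGroup.induction_on with | mk g =>
    subst hr
    set D₀ := Matrix.GeneralLinearGroup.det g with hD
    obtain ⟨z, hz⟩ : ∃ z : Fˣ, (z * z * D₀) ^ 2 = r ^ 2 := by
      rcases sq_or_neg_sq K.four (div_ne_zero r.ne_zero D₀.ne_zero) with ⟨z, hz⟩ | ⟨z, hz⟩
      · refine ⟨Units.mk0 z (fun h => div_ne_zero r.ne_zero D₀.ne_zero (by rw [hz, h, mul_zero])), ?_⟩
        apply Units.ext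
        simp only [Units.val_pow_eq_pow_val, Units.val_mul, Units.val_mk0, ← hz]
        rw [div_mul_cancel₀ _ D₀.ne_zero]
      · refine ⟨Units.mk0 z (fun h => div_ne_zero r.ne_zero D₀.ne_zero (neg_eq_zero.1 (by rw [hz, h, mul_zero]))), ?_⟩
        apply Units.ext
        simp only [Units.val_pow_eq_pow_val, Units.val_mul, Units.val_mk0, ← hz]
        rw [neg_mul, div_mul_cancel₀ _ D₀.ne_zero, neg_sq]
    refine ⟨g * Matrix.GeneralLinearGroup.scalar (Fin 2) z, Prod.ext ?_ (Subtype.ext ?_)⟩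
    · show Matrix.ProjGenLinGroup.mk (g * _) = _
      rw [map_mul, Matrix.ProjGenLinGroup.mk_scalar, mul_one]
    · show (Matrix.GeneralLinearGroup.det (g * _)) ^ 2 = r ^ 2
      rw [map_mul, hdet, ← hD, mul_comm D₀, hz]
  have hker : (rho : GL (Fin 2) F →* Equiv.Perm (V F)).ker = Ψ.ker := by
    ext g
    constructor
    · intro hg
      have hg' : ∀ v, rho g v = v := fun v => DFunLike.congr_fun (MonoidHom.mem_ker.1 hg) v
      have e1 := hg' (1, 0, 0)
      have e2 := hg' (0, 1, 0)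
      have e3 := hg' (0, 0, 1)
      simp only [rho_apply, act, mul_one, mul_zero, add_zero, zero_add, Prod.mk.injEq, mul_eq_zero,
        or_self] at e1 e2 e3
      set a := (g : Matrix (Fin 2) (Fin 2) F) 0 0 with ha
      set b := (g : Matrix (Fin 2) (Fin 2) F) 0 1 with hb
      set c := (g : Matrix (Fin 2) (Fin 2) F) 1 0 with hc
      set d := (g : Matrix (Fin 2) (Fin 2) F) 1 1 with hd
      obtain ⟨haa, -, hc0⟩ := e1
      obtain ⟨hb0, -, hdd⟩ := e3
      have had : a * d = 1 := by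
        have := e2.2.1
        rw [hb0, hc0, mul_zero, add_zero] at this
        exact this
      have hgs : g = Matrix.GeneralLinearGroup.scalar (Fin 2) (Units.mk0 a (left_ne_zero_of_mul_eq_one haa)) := by
        have hda : d = a := by linear_combination a * had - d * haa
        ext i j
        fin_cases i <;> fin_cases j <;>
          simp [Matrix.GeneralLinearGroup.coe_scalar, Matrix.scalar_apply, ← ha, ← hb, ← hc, ← hd, hb0, hc0, hda]
      rw [MonoidHom.mem_ker]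
      refine Prod.ext ?_ (Subtype.ext ?_)
      · show Matrix.ProjGenLinGroup.mk g = 1
        rw [hgs, Matrix.ProjGenLinGroup.mk_scalar]
      · show (Matrix.GeneralLinearGroup.det g) ^ 2 = 1
        rw [hgs, hdet]
        apply Units.ext
        simp [haa]
    · intro hg
      rw [MonoidHom.mem_ker] at hg ⊢
      have h1 : Matrix.ProjGenLinGroup.mk g = 1 := congrArg Prod.fst hg
      have h3 : (Matrix.GeneralLinearGroup.det g) ^ 2 = 1 := congrArg (fun z => (z.2 : Fˣ)) hg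
      rw [Matrix.ProjGenLinGroup.mk_eq_one, Matrix.GeneralLinearGroup.center_eq_range_scalar] at h1
      obtain ⟨u, rfl⟩ := h1
      rw [hdet] at h3
      have h4' : ((u : F) * u) * (u * u) = 1 * 1 := by
        have := congrArg Units.val h3
        rw [Units.val_pow_eq_pow_val, Units.val_mul, Units.val_one] at this
        linear_combination this
      have h5 : (u : F) * u = 1 :=
        (mul_self_eq_mul_self_iff.1 h4').resolve_right fun h => neg_one_not_sq K.four ⟨u, h.symm⟩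
      refine Equiv.ext fun ⟨a, b, c⟩ => ?_
      simp [rho_apply, act, Matrix.GeneralLinearGroup.coe_scalar, Matrix.scalar_apply, h5]
  haveI : IsCyclic Sq := Subgroup.isCyclic Sq
  exact ⟨(A.equivMapOfInjective (MulAut.conj Φ).toMonoidHom (MulAut.conj Φ).injective).trans
    ((MulEquiv.subgroupCongr hA).trans ((QuotientGroup.quotientKerEquivRange rho).symm.trans
      ((QuotientGroup.quotientMulEquivOfEq hker).trans
        ((QuotientGroup.quotientKerEquivOfSurjective Ψ hsurj).trans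
          (MulEquiv.prodCongr (MulEquiv.refl _) (mulEquivOfCyclicCardEq
            (by rw [hSq, Nat.card_congr Multiplicative.toAdd, Nat.card_zmod])))))))⟩

end H40.PSpLocal
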