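import Cfsg.Agent.H40.PSpLocal.Emb
import Cfsg.Agent.H40.PSpLocal.Struct
import Cfsg.Agent.H2.Gaschutz

/-!
The normaliser of the elementary abelian subgroup of order `q ^ 3` acts on it as the symmetric square.
-/

set_option autoImplicit false
set_option linter.style.haveILetI false
set_option linter.unusedSectionVars false

open Matrix

namespace H40.PSpLocal

variable {F : Type*} [Field F] [Fintype F]

theorem Emb.isPGroup_U0 {H : Type*} [Group H] (E : Emb H F) {p n : ℕ} (hF : Fintype.card F = p ^ n) :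
    IsPGroup p E.U0 :=
  IsPGroup.of_card (n := 4 * n) (by rw [E.card_U0, hF, ← pow_mul, mul_comm n])

/-- transport of coordinates to a group with an isomorphic centraliser -/
theorem exists_emb {G : Type*} [Group G] [Finite G] {p n : ℕ} [Fact p.Prime] (hn : 1 ≤ n)
    (hF : Fintype.card F = p ^ n) (h2 : (2 : F) ≠ 0) {x : Cfsg.PSp 2 F} (hx : orderOf x = p)
    (Px : Sylow p (Cfsg.PSp 2 F)) (hxP : x ∈ (Px : Subgroup (Cfsg.PSp 2 F)))
    (hxc : ∀ y ∈ (Px : Subgroup (Cfsg.PSp 2 F)), y * x = x * y) {α : G}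
    (e : ↥(Subgroup.centralizer ({α} : Set G)) ≃* ↥(Subgroup.centralizer ({x} : Set (Cfsg.PSp 2 F))))
    (P : Sylow p G) (hP : (P : Subgroup G) ≤ Subgroup.centralizer ({α} : Set G)) :
    ∃ E : Emb G F, (∀ y, y ∈ Subgroup.centralizer ({α} : Set G) ↔ ∃ v c g, E.j v c g = y) ∧
      (P : Subgroup G) = E.U0 := by
  classical
  set M := pspEmb (F := F) h2 with hM
  have hU : IsPGroup p M.U0 := M.isPGroup_U0 hF
  obtain ⟨S, hS⟩ := hU.exists_le_sylow
  have hSeq : M.U0 = (S : Subgroup (Cfsg.PSp 2 F)) :=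
    Subgroup.eq_of_le_of_card_ge hS (by rw [M.card_U0]; exact card_pGroup_le p n hn hF S.isPGroup')
  obtain ⟨k, hk⟩ := MulAction.exists_smul_eq (Cfsg.PSp 2 F) S Px
  set E1 := M.conj k with hE1
  have hE1P : ∀ {y}, y ∈ E1.U0 → y ∈ (Px : Subgroup (Cfsg.PSp 2 F)) := by
    intro y hy
    obtain ⟨v, c, s, rfl⟩ := E1.mem_U0.1 hy
    rw [← hk, Sylow.coe_subgroup_smul, ← hSeq]
    exact ⟨_, M.j_mem_U0 v c s, rfl⟩
  have hxU : x ∈ E1.U0 := by
    rw [← hk, Sylow.coe_subgroup_smul, ← hSeq] at hxP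
    obtain ⟨y, hy, rfl⟩ := hxP
    obtain ⟨v, c, s, rfl⟩ := M.mem_U0.1 hy
    exact E1.j_mem_U0 v c s
  obtain ⟨a, ha⟩ := E1.center_U0 h2 hxU fun u hu => hxc u (hE1P hu)
  have ha0 : a ≠ 0 := by
    rintro rfl
    rw [ha, E1.one, orderOf_one] at hx
    exact (Fact.out : p.Prime).one_lt.ne hx
  have hmemx : ∀ v c g, E1.j v c g ∈ Subgroup.centralizer ({x} : Set (Cfsg.PSp 2 F)) := fun v c g => by
    rw [Subgroup.mem_centralizer_singleton_iff, ha]
    exact E1.central a v c g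
  have hsurj : ∀ y ∈ Subgroup.centralizer ({x} : Set (Cfsg.PSp 2 F)), ∃ v c g, E1.j v c g = y := by
    intro y hy
    rw [Subgroup.mem_centralizer_singleton_iff, ha] at hy
    obtain ⟨v, c, g, h⟩ := centralizer_root h2 ha0 (k⁻¹ * y * k) (by
      change k⁻¹ * y * k * M.j 0 a 1 = M.j 0 a 1 * (k⁻¹ * y * k)
      change y * (k * M.j 0 a 1 * k⁻¹) = k * M.j 0 a 1 * k⁻¹ * y at hy
      calc k⁻¹ * y * k * M.j 0 a 1 = k⁻¹ * (y * (k * M.j 0 a 1 * k⁻¹)) * k := by group
        _ = _ := by rw [hy]; group)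
    refine ⟨v, c, g, ?_⟩
    show k * M.j v c g * k⁻¹ = y
    rw [hM, h]; group
  let E2 : Emb G F := ((E1.restrict _ hmemx).map e.symm.toMonoidHom e.symm.injective).map
    (Subgroup.subtype _) (Subgroup.subtype_injective _)
  have hE2 : ∀ y, y ∈ Subgroup.centralizer ({α} : Set G) ↔ ∃ v c g, E2.j v c g = y := by
    intro y
    constructor
    · intro hy
      obtain ⟨v, c, g, h⟩ := hsurj _ (e ⟨y, hy⟩).2
      refine ⟨v, c, g, ?_⟩
      show ((e.symm ⟨E1.j v c g, _⟩ : ↥(Subgroup.centralizer ({α} : Set G))) : G) = y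
      rw [show (⟨E1.j v c g, hmemx v c g⟩ : ↥(Subgroup.centralizer ({x} : Set (Cfsg.PSp 2 F)))) = e ⟨y, hy⟩
        from Subtype.ext h, e.symm_apply_apply]
    · rintro ⟨v, c, g, rfl⟩
      exact (e.symm _).2
  -- conjugate onto the given Sylow subgroup
  set C := Subgroup.centralizer ({α} : Set G) with hC
  have hU2C : E2.U0 ≤ C := fun y hy => by
    obtain ⟨v, c, s, rfl⟩ := E2.mem_U0.1 hy
    exact (hE2 _).2 ⟨_, _, _, rfl⟩
  have hU2p : IsPGroup p (E2.U0.subgroupOf C) :=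
    (E2.isPGroup_U0 hF).of_equiv (Subgroup.subgroupOfEquivOfLe hU2C).symm
  obtain ⟨R, hR⟩ := hU2p.exists_le_sylow
  obtain ⟨c₀, hc₀⟩ := MulAction.exists_smul_eq C R (P.subtype hP)
  set E3 := E2.conj (c₀ : G) with hE3
  have hE3mem : ∀ y, y ∈ C ↔ ∃ v c g, E3.j v c g = y := by
    intro y
    constructor
    · intro hy
      obtain ⟨v, c, g, h⟩ := (hE2 _).1 (mul_mem (mul_mem (inv_mem c₀.2) hy) c₀.2)
      refine ⟨v, c, g, ?_⟩
      show (c₀ : G) * E2.j v c g * (c₀ : G)⁻¹ = y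
      rw [h]; group
    · rintro ⟨v, c, g, rfl⟩
      exact mul_mem (mul_mem c₀.2 ((hE2 _).2 ⟨_, _, _, rfl⟩)) (inv_mem c₀.2)
  have hE3P : E3.U0 ≤ (P : Subgroup G) := by
    intro y hy
    obtain ⟨v, c, s, rfl⟩ := E3.mem_U0.1 hy
    have hmem : (⟨E2.j v c (uni s), (hE2 _).2 ⟨_, _, _, rfl⟩⟩ : C) ∈ (R : Subgroup C) :=
      hR (Subgroup.mem_subgroupOf.2 (E2.j_mem_U0 v c s))
    have : c₀ * ⟨E2.j v c (uni s), (hE2 _).2 ⟨_, _, _, rfl⟩⟩ * c₀⁻¹ ∈ (P.subtype hP : Subgroup C) := by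
      rw [← hc₀, Sylow.coe_subgroup_smul]
      exact ⟨_, hmem, rfl⟩
    exact Subgroup.mem_subgroupOf.1 this
  refine ⟨E3, hE3mem, (Subgroup.eq_of_le_of_card_ge hE3P ?_).symm⟩
  let f : ↥(P : Subgroup G) →* Cfsg.PSp 2 F :=
    (Subgroup.subtype _).comp (e.toMonoidHom.comp (Subgroup.inclusion hP))
  have hf : Function.Injective f :=
    (Subgroup.subtype_injective _).comp (e.injective.comp (Subgroup.inclusion_injective hP))
  rw [E3.card_U0, Nat.card_congr (MonoidHom.ofInjective hf).toEquiv]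
  exact card_pGroup_le p n hn hF (P.isPGroup'.of_equiv (MonoidHom.ofInjective hf))

variable {G : Type*} [Group G] (E : Emb G F)

/-- the elementary abelian subgroup in coordinates -/
def Emb.iota (v : V F) : G := E.j (v.2.1, 0) v.1 (uni v.2.2)

theorem Emb.iota_add (v w : V F) : E.iota (v + w) = E.iota v * E.iota w := by
  rw [Emb.iota, Emb.iota, Emb.iota, E.uni_mul_uni]
  congr 1 <;> simp

theorem Emb.iota_injective : Function.Injective E.iota := by
  rintro ⟨a, b, c⟩ ⟨a', b', c'⟩ h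
  obtain ⟨h1, h2, h3⟩ := E.inj h
  simp only [Prod.mk.injEq] at h1
  simp only at h2 h3
  rw [h1.1, h2, uni_injective h3]

/-- the translation acting as a unipotent element -/
def Emb.uel (s : F) : G := E.j (0, -s) 0 (uni 0)
/-- the torus element -/
def Emb.tel (d : Fˣ) : G := E.j 0 0 (dia d)

theorem Emb.uel_conj (s : F) (v : V F) : E.uel s * E.iota v = E.iota (U s v) * E.uel s := by
  obtain ⟨a, b, c⟩ := v
  rw [Emb.uel, Emb.iota, Emb.iota, E.uni_mul_uni, E.uni_mul_uni]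
  simp only [U_apply, zero_add, add_zero]
  congr 1
  · ext <;> simp; ring
  · ring

theorem Emb.tel_conj (d : Fˣ) (v : V F) : E.tel d * E.iota v = E.iota (T d v) * E.tel d := by
  obtain ⟨a, b, c⟩ := v
  rw [Emb.tel, Emb.iota, Emb.iota, E.mul', E.mul', dia_uni, T_apply]
  congr 1
  · ext <;> simp [sa_dia, sa_uni]
  · simp [sa_dia, sa_uni]

/-- an element of the centraliser with triangular linear part -/
theorem Emb.decomp (v : F × F) (c : F) (g : SL2 F) (h10 : g.1 1 0 = 0) :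
    ∃ d m, E.j v c g = E.uel (-v.2) * E.tel d * E.iota m := by
  have hdet := sl2_det g
  rw [h10, mul_zero, sub_zero] at hdet
  have h00 : g.1 0 0 ≠ 0 := left_ne_zero_of_mul_eq_one hdet
  refine ⟨Units.mk0 _ h00, (c + v.2 * v.1, v.1 / g.1 0 0, g.1 0 1 / g.1 0 0), ?_⟩
  rw [Emb.uel, Emb.tel, Emb.iota, uni_zero, E.mul', one_mul, E.mul']
  have hg : g = dia (Units.mk0 _ h00) * uni (g.1 0 1 / g.1 0 0) := by
    refine Subtype.ext ?_
    rw [Matrix.SpecialLinearGroup.coe_mul]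
    ext i j
    have h11 : g.1 1 1 = (g.1 0 0)⁻¹ := eq_inv_of_mul_eq_one_right hdet
    fin_cases i <;> fin_cases j <;> simp [dia, uni, h10, h11, mul_div_cancel₀ _ h00]
  congr 1
  · ext <;> simp [sa_one, sa_dia, mul_div_cancel₀ _ h00]
  · simp [sa_one, sa_dia, mul_div_cancel₀ _ h00]

/-- commutation in the maximal unipotent subgroup -/
theorem Emb.commute_iff {v w : F × F} {c d s t : F}
    (h : E.j v c (uni s) * E.j w d (uni t) = E.j w d (uni t) * E.j v c (uni s)) :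
    s * w.2 = t * v.2 ∧ 2 * (v.1 * w.2 - v.2 * w.1) = v.2 * (s * w.2) - w.2 * (t * v.2) := by
  rw [E.uni_mul_uni, E.uni_mul_uni] at h
  obtain ⟨h1, h2, -⟩ := E.inj h
  simp only [Prod.mk.injEq] at h1
  exact ⟨by linear_combination h1.1, by linear_combination h2⟩

/-- uniqueness of the elementary abelian subgroup -/
theorem Emb.abelian_le (h2 : (2 : F) ≠ 0) {M : Subgroup G} (hM : M ≤ E.U0) [IsMulCommutative M]
    (hcard : Fintype.card F ^ 3 ≤ Nat.card M) : ∀ y ∈ M, ∃ v, E.iota v = y := by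
  intro y hy
  obtain ⟨⟨v1, v2⟩, c, s, rfl⟩ := E.mem_U0.1 (hM hy)
  suffices hv : v2 = 0 by subst hv; exact ⟨(c, v1, s), rfl⟩
  by_contra hv
  have key : ∀ z : M, ∃ w d t, E.j w d (uni t) = (z : G) := fun z => E.mem_U0.1 (hM z.2)
  choose w d t hwd using key
  have hinj : Function.Injective (fun z : M => ((w z).2, d z)) := by
    intro z z' h
    simp only [Prod.mk.injEq] at h
    have hc : ∀ z : M, s * (w z).2 = t z * v2 ∧
        2 * (v1 * (w z).2 - v2 * (w z).1) = v2 * (s * (w z).2) - (w z).2 * (t z * v2) := fun z => by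
      refine E.commute_iff (v := (v1, v2)) (c := c) (d := d z) ?_
      rw [hwd]
      exact congrArg Subtype.val (IsMulCommutative.is_comm.comm (⟨_, hy⟩ : M) z)
    obtain ⟨a1, a2⟩ := hc z
    obtain ⟨b1, b2⟩ := hc z'
    have et : t z = t z' := mul_right_cancel₀ hv (by rw [← a1, ← b1, h.1])
    have ew : (w z).1 = (w z').1 := by
      refine mul_left_cancel₀ (mul_ne_zero h2 hv) ?_
      rw [h.1, et] at a2
      linear_combination b2 - a2
    apply Subtype.ext
    rw [← hwd z, ← hwd z', et, h.2, show w z = w z' from Prod.ext ew h.1]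
  have h := Nat.card_le_card_of_injective _ hinj
  rw [Nat.card_prod, Nat.card_eq_fintype_card (α := F)] at h
  have hq : 1 < Fintype.card F := Fintype.one_lt_card
  nlinarith [Nat.mul_pos (Fintype.card_pos (α := F)) (Fintype.card_pos (α := F))]

end H40.PSpLocal
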