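import Mathlib

/-!
The symmetric square of the natural module of `GL(2, F)` in coordinates, and arithmetic in fields
whose order is `3` modulo `4`.
-/

set_option autoImplicit false

open Matrix

namespace H40.PSpLocal

variable {F : Type*} [Field F]

/-- coordinates of a symmetric matrix `(a b; b c)` -/
abbrev V (F : Type*) := F × F × F

/-- the action of a matrix `g` by `S ↦ g S gᵀ` -/
def act (g : Matrix (Fin 2) (Fin 2) F) (v : V F) : V F :=
  (g 0 0 * g 0 0 * v.1 + 2 * (g 0 0 * g 0 1) * v.2.1 + g 0 1 * g 0 1 * v.2.2,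
   g 0 0 * g 1 0 * v.1 + (g 0 0 * g 1 1 + g 0 1 * g 1 0) * v.2.1 + g 0 1 * g 1 1 * v.2.2,
   g 1 0 * g 1 0 * v.1 + 2 * (g 1 0 * g 1 1) * v.2.1 + g 1 1 * g 1 1 * v.2.2)

theorem act_one (v : V F) : act 1 v = v := by
  obtain ⟨a, b, c⟩ := v
  simp [act, Matrix.one_apply]

theorem act_mul (g h : Matrix (Fin 2) (Fin 2) F) (v : V F) : act (g * h) v = act g (act h v) := by
  obtain ⟨a, b, c⟩ := v
  simp only [act, Matrix.mul_apply, Fin.sum_univ_two, Prod.mk.injEq]
  refine ⟨?_, ?_, ?_⟩ <;> ring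

theorem act_add (g : Matrix (Fin 2) (Fin 2) F) (v w : V F) : act g (v + w) = act g v + act g w := by
  obtain ⟨a, b, c⟩ := v
  obtain ⟨a', b', c'⟩ := w
  simp only [act, Prod.mk_add_mk, Prod.mk.injEq]
  refine ⟨?_, ?_, ?_⟩ <;> ring

/-- the symmetric square -/
def rho : GL (Fin 2) F →* Equiv.Perm (V F) where
  toFun g :=
    { toFun := act (g : Matrix (Fin 2) (Fin 2) F)
      invFun := act ((g⁻¹ : GL (Fin 2) F) : Matrix (Fin 2) (Fin 2) F)
      left_inv := fun v => by rw [← act_mul, ← Units.val_mul, inv_mul_cancel, Units.val_one, act_one]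
      right_inv := fun v => by rw [← act_mul, ← Units.val_mul, mul_inv_cancel, Units.val_one, act_one] }
  map_one' := Equiv.ext act_one
  map_mul' g h := Equiv.ext fun v => by
    show act ((g * h : GL (Fin 2) F) : Matrix (Fin 2) (Fin 2) F) v = _
    rw [Units.val_mul, act_mul]
    rfl

theorem rho_apply (g : GL (Fin 2) F) (v : V F) :
    rho g v = act (g : Matrix (Fin 2) (Fin 2) F) v := rfl

theorem rho_add (g : GL (Fin 2) F) (v w : V F) : rho g (v + w) = rho g v + rho g w := act_add _ v w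

/-- upper triangular matrices -/
def up (x : Fˣ) (y : F) (z : Fˣ) : GL (Fin 2) F :=
  Matrix.GeneralLinearGroup.mkOfDetNeZero !![(x : F), y; 0, (z : F)]
    (by rw [Matrix.det_fin_two_of, mul_zero, sub_zero]; exact mul_ne_zero x.ne_zero z.ne_zero)

/-- antidiagonal matrices -/
def anti (x y : Fˣ) : GL (Fin 2) F :=
  Matrix.GeneralLinearGroup.mkOfDetNeZero !![0, (x : F); (y : F), 0]
    (by rw [Matrix.det_fin_two_of, zero_mul, zero_sub]; exact neg_ne_zero.2 (mul_ne_zero x.ne_zero y.ne_zero))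

@[simp] theorem rho_up (x : Fˣ) (y : F) (z : Fˣ) (a b c : F) :
    rho (up x y z) (a, b, c) =
      ((x : F) * x * a + 2 * ((x : F) * y) * b + y * y * c, (x : F) * z * b + y * z * c,
        (z : F) * z * c) := by
  simp [rho_apply, act, up]

@[simp] theorem rho_anti (x y : Fˣ) (a b c : F) :
    rho (anti x y) (a, b, c) = ((x : F) * x * c, (x : F) * y * b, (y : F) * y * a) := by
  simp [rho_apply, act, anti]

/-- unipotent elements -/
def U (s : F) : Equiv.Perm (V F) := rho (up 1 s 1)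
/-- the torus fixing the first coordinate -/
def T (d : Fˣ) : Equiv.Perm (V F) := rho (up 1 0 d)
/-- the torus fixing the last coordinate -/
def D (e : Fˣ) : Equiv.Perm (V F) := rho (up e 0 1)
/-- the central involution of the tori -/
def tau : Equiv.Perm (V F) := T (-1)

@[simp] theorem U_apply (s a b c : F) : U s (a, b, c) = (a + 2 * s * b + s * s * c, b + s * c, c) := by
  simp [U]
@[simp] theorem T_apply (d : Fˣ) (a b c : F) : T d (a, b, c) = (a, (d : F) * b, (d : F) * d * c) := by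
  simp [T]
@[simp] theorem D_apply (e : Fˣ) (a b c : F) : D e (a, b, c) = ((e : F) * e * a, (e : F) * b, c) := by
  simp [D]
@[simp] theorem tau_apply (a b c : F) : tau (a, b, c) = (a, -b, c) := by simp [tau]

theorem U_zero : U (0 : F) = 1 := Equiv.ext fun ⟨a, b, c⟩ => by simp
theorem T_one : T (1 : Fˣ) = (1 : Equiv.Perm (V F)) := Equiv.ext fun ⟨a, b, c⟩ => by simp
theorem U_mul (s t : F) : U s * U t = U (s + t) := Equiv.ext fun ⟨a, b, c⟩ => by
  simp only [Equiv.Perm.mul_apply, U_apply, Prod.mk.injEq]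
  refine ⟨?_, ?_, trivial⟩ <;> ring
theorem T_mul (d d' : Fˣ) : T d * T d' = (T (d * d') : Equiv.Perm (V F)) := Equiv.ext fun ⟨a, b, c⟩ => by
  simp only [Equiv.Perm.mul_apply, T_apply, Units.val_mul, Prod.mk.injEq]
  refine ⟨trivial, ?_, ?_⟩ <;> ring
theorem U_inv (s : F) : (U s)⁻¹ = U (-s) := inv_eq_of_mul_eq_one_right (by rw [U_mul, add_neg_cancel, U_zero])
theorem T_inv (d : Fˣ) : (T d)⁻¹ = (T d⁻¹ : Equiv.Perm (V F)) :=
  inv_eq_of_mul_eq_one_right (by rw [T_mul, mul_inv_cancel, T_one])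
theorem T_U (d : Fˣ) (s : F) : T d * U s = U (s * (d : F)⁻¹) * T d := Equiv.ext fun ⟨a, b, c⟩ => by
  have hd := d.ne_zero
  simp only [Equiv.Perm.mul_apply, T_apply, U_apply, Prod.mk.injEq]
  refine ⟨?_, ?_, trivial⟩ <;> field_simp
theorem tau_sq : tau * tau = (1 : Equiv.Perm (V F)) := Equiv.ext fun ⟨a, b, c⟩ => by simp

theorem UT_pow (s : F) (d : Fˣ) (n : ℕ) : ∃ s', (U s * T d) ^ n = U s' * T (d ^ n) := by
  induction n with
  | zero => exact ⟨0, by simp [U_zero, T_one]⟩
  | succ n ih =>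
    obtain ⟨s', h⟩ := ih
    refine ⟨s' + s * ((d ^ n : Fˣ) : F)⁻¹, ?_⟩
    rw [pow_succ, h, mul_assoc, ← mul_assoc (T (d ^ n)), T_U, mul_assoc, T_mul, ← mul_assoc, U_mul,
      pow_succ]

/-! ### The field -/

section field

variable [Fintype F] (h4 : Fintype.card F % 4 = 3)
include h4

theorem neg_one_not_sq : ¬ IsSquare (-1 : F) := fun h => FiniteField.isSquare_neg_one_iff.1 h h4

theorem two_ne : (2 : F) ≠ 0 := fun h => neg_one_not_sq h4 ⟨1, by linear_combination -h⟩

theorem neg_one_ne : (-1 : Fˣ) ≠ 1 := fun h => by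
  have h' := congrArg Units.val h
  rw [Units.val_neg, Units.val_one] at h'
  exact two_ne h4 (by linear_combination -h')

theorem sq_or_neg_sq {x : F} (hx : x ≠ 0) : IsSquare x ∨ IsSquare (-x) := by
  classical
  by_cases h : IsSquare x
  · exact Or.inl h
  right
  by_contra h'
  have h2 : ringChar F ≠ 2 := fun e =>
    two_ne h4 (by haveI := ringChar.of_eq e; exact_mod_cast CharP.cast_eq_zero F 2)
  have a1 := quadraticChar_neg_one_iff_not_isSquare (F := F).2 h
  have a2 := quadraticChar_neg_one_iff_not_isSquare (F := F).2 h'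
  have a3 := quadraticChar_neg_one_iff_not_isSquare (F := F).2 (neg_one_not_sq h4)
  rw [neg_eq_neg_one_mul, map_mul, a1, a3] at a2
  norm_num at a2

theorem sq_add {x : F} : ∃ y z : F, x = y * y - z * z :=
  ⟨(x + 1) / 2, (x - 1) / 2, by field_simp [two_ne h4]; ring⟩

theorem eq_of_sq_eq {x y : F} (h : x * x = y * y) : x = y ∨ x = -y := mul_self_eq_mul_self_iff.1 h

end field

end H40.PSpLocal
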